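import Cfsg.Agent.Lib.CoOneType.Finite
import Cfsg.Agent.Lib.Orth.NegOne

/-!
An isometry of order three of the eight-dimensional space of plus type with a commutator space of order four
rotates an anisotropic plane; normal form, and the fixed space of the normal form as a space of minus type.
-/

set_option autoImplicit false
set_option linter.style.longLine false
set_option maxHeartbeats 2000000
set_option maxRecDepth 100000
set_option synthInstance.maxSize 8000
set_option synthInstance.maxHeartbeats 1000000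

namespace CfsgLib.CoOneType.SuzCent

/-- `f` rotates the anisotropic plane of `w`, `w'`. -/
structure Rot (f : V → V) (w w' : V) : Prop where
  qw : qV 0 w = 1
  qw' : qV 0 w' = 1
  bw : B w w' = 1
  eq : f = fun v => refl w (refl w' v)

theorem exists_rot {f : V → V} (hadd : ∀ a b, f (a + b) = f a + f b) (hq : ∀ v, qV 0 (f v) = qV 0 v)
    (h3 : ∀ v, f (f (f v)) = v) {U : Finset V} (hU : ∀ v, f v + v ∈ U) (hU4 : U.card ≤ 4) (hne : ∃ v, f v ≠ v) :
    ∃ w w', Rot f w w' := by
  classical
  have hB : ∀ a b, B (f a) (f b) = B a b := fun a b => by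
    have h := hq (a + b)
    rw [hadd, qV_add, qV_add, hq, hq] at h
    exact add_left_cancel h
  have hf0 : f 0 = 0 := by
    have h := hadd 0 0
    rw [add_zero] at h
    exact left_eq_add.mp h
  obtain ⟨v0, hv0⟩ := hne
  set w := f v0 + v0 with hw
  set w' := f w with hw'
  have hw0 : w ≠ 0 := fun h => hv0 (eqV h)
  have hinj : Function.Injective f := fun a b h => by rw [← h3 a, ← h3 b, h]
  have hw'0 : w' ≠ 0 := fun h => hw0 (hinj (h.trans hf0.symm))
  have hsum : w + w' + f w' = 0 := by
    rw [hw', hw, hadd, hadd, h3]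
    generalize f (f v0) = b
    generalize f v0 = a
    rw [show a + v0 + (b + a) + (v0 + b) = (a + a) + (v0 + v0) + (b + b) by abel]
    simp [addV]
  have hthird : f w' = w + w' := (eqV (a := w + w') (b := f w') hsum).symm
  have hne' : w' ≠ w := fun h => hw'0 <| by
    have := hthird
    rw [h, addV, ← hw', h] at this
    exact h.trans this
  have hU0 : (0 : V) ∈ U := by simpa [hf0] using hU 0
  have hwU : w ∈ U := hU v0
  have hw'U : w' ∈ U := by rw [hw', hw, hadd]; exact hU _
  have hwwU : w + w' ∈ U := by rw [← hthird, hw', hw, hadd, hadd]; exact hU _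
  have hUeq : ∀ u ∈ U, u = 0 ∨ u = w ∨ u = w' ∨ u = w + w' := by
    have hn1 : w' ≠ w + w' := fun h => hw0 (by simpa using h)
    have hn2 : w ≠ w + w' := fun h => hw'0 (by simpa using h)
    have hn3 : w + w' ≠ 0 := fun h => hne' (eqV h).symm
    have hsub : ({0, w, w', w + w'} : Finset V) ⊆ U := by
      intro a ha
      simp only [Finset.mem_insert, Finset.mem_singleton] at ha
      rcases ha with rfl | rfl | rfl | rfl <;> assumption
    have hc : ({0, w, w', w + w'} : Finset V).card = 4 := by
      rw [Finset.card_insert_of_notMem, Finset.card_insert_of_notMem, Finset.card_pair hn1]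
      · simp [hne'.symm, hn2]
      · simp [Ne.symm hw0, Ne.symm hw'0, Ne.symm hn3]
    intro u hu
    rw [← Finset.eq_of_subset_of_card_le hsub (by rw [hc]; exact hU4)] at hu
    simpa using hu
  have hqw' : qV 0 w' = qV 0 w := hq w
  have hBw : B w w' = qV 0 w := by
    have h := qV_add 0 w w'
    rw [← hthird, hq, hqw', CharTwo.add_self_eq_zero, zero_add] at h
    exact h.symm
  have hBw' : B w' w = qV 0 w := by rw [B_comm, hBw]
  have hqw : qV 0 w = 1 := by
    refine (zcases (qV 0 w)).resolve_left fun h0 => ?_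
    obtain ⟨v, hv⟩ := exists_B_one w hw0
    have hfix : ∀ m, f m = m → B m w = 0 := fun m hm => by
      have : B m (f v0) = B m v0 := by conv_lhs => rw [← hm, hB]
      rw [hw, B_add_right, this, CharTwo.add_self_eq_zero]
    have himg : ∀ u ∈ U, B u w = 0 := fun u hu => by
      rcases hUeq u hu with rfl | rfl | rfl | rfl <;>
        simp [B_zero_left, B_self, B_add_left, hBw', h0]
    have hdec : v = (v + f v + f (f v)) + (f (f v) + f v) := by
      rw [show (v + f v + f (f v)) + (f (f v) + f v) = v + (f v + f v) + (f (f v) + f (f v)) by abel]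
      simp [addV]
    have hm : f (v + f v + f (f v)) = v + f v + f (f v) := by
      rw [hadd, hadd, h3]; abel
    rw [hdec, B_add_left, hfix _ hm, himg _ (hU (f v))] at hv
    norm_num at hv
  refine ⟨w, w', hqw, hqw'.trans hqw, hBw.trans hqw, funext fun v => ?_⟩
  have d1 : B (f v) w' = B v w := by rw [hw', hB]
  have d2 : B (f v) w = B v w' + B v w := by
    have h := hB v w'
    rw [hthird, B_add_right, d1] at h
    linear_combination (norm := ring_nf) h
    simp [show (2 : ZMod 2) = 0 from rfl]
  have hd : f v = v + (f v + v) := by rw [add_comm (f v), ← add_assoc, addV, zero_add]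
  have e1 : B (f v + v) w = B v w' := by
    rw [B_add_left, d2, add_assoc, CharTwo.add_self_eq_zero, add_zero]
  have e2 : B (f v + v) w' = B v w + B v w' := by rw [B_add_left, d1]
  have hrefl : refl w (refl w' v) = v + B v w' • w' + (B v w + B v w') • w := by
    simp only [refl, B_add_left]
    rcases zcases (B v w') with h | h <;> simp [h, hBw', hqw, B_zero_left]
  rw [hrefl]
  rcases hUeq _ (hU v) with h | h | h | h <;> rw [h] at hd e1 e2 <;>
    simp only [B_zero_left, B_self, B_add_left, hBw, hBw', hqw, zero_add, add_zero] at e1 e2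
  all_goals rw [hd]; rcases zcases (B v w) with ha | ha <;> rcases zcases (B v w') with hb | hb <;>
    simp [ha, hb, show (1 : ZMod 2) + 1 = 0 from rfl, show (2 : ℕ) • (1 : ZMod 2) = 0 from rfl] at e1 e2 ⊢
  all_goals abel

namespace Rot

variable {f : V → V} {w w' : V} (R : Rot f w w')
include R

theorem apply (v : V) : f v = refl w (refl w' v) := congrFun R.eq v

theorem add (a b : V) : f (a + b) = f a + f b := by simp only [R.apply, refl_add]

theorem fix {v : V} (h : B v w = 0) (h' : B v w' = 0) : f v = v := by simp [R.apply, refl, h, h']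

theorem perp {v : V} (h : f v = v) : B v w = 0 ∧ B v w' = 0 := by
  have hb : B w' w = 1 := by rw [B_comm, R.bw]
  rw [R.apply] at h
  have h1 := congrArg (fun u => B u w) h
  have h2 := congrArg (fun u => B u w') h
  rcases zcases (B v w) with ha | ha <;> rcases zcases (B v w') with hc | hc <;>
    simp [refl, B_add_left, B_self, B_zero_left, ha, hc, hb, R.bw, show (1 : ZMod 2) + 1 = 0 from rfl] at h1 h2 ⊢

theorem app_w : f w = w' := by
  have hb : B w w' = 1 := R.bw
  simp [R.apply, refl, hb, B_add_left, B_self, show B w' w = 1 by rw [B_comm, hb], add_right_comm, addV]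

theorem move (v : V) : f v + v = 0 ∨ f v + v = w ∨ f v + v = w' ∨ f v + v = w + w' := by
  have hb : B w' w = 1 := by rw [B_comm, R.bw]
  rcases zcases (B v w) with ha | ha <;> rcases zcases (B v w') with hc | hc <;>
    simp [R.apply, refl, B_add_left, ha, hc, hb, B_zero_left, show (1 : ZMod 2) + 1 = 0 from rfl]
  all_goals simp [add_comm, add_left_comm, addV, add_assoc]

end Rot

/-! ### The normal form -/

def pA : V := ((0, 0), ((0, 0), ((1, 1), (0, 0))))
def pA' : V := ((0, 0), ((0, 0), ((1, 0), (1, 1))))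

/-- The rotation of the standard plane. -/
def X0 (v : V) : V := refl pA (refl pA' v)

theorem rot_X0 : Rot X0 pA pA' := ⟨by decide +kernel, by decide +kernel, by decide +kernel, rfl⟩

theorem X0_add (a b : V) : X0 (a + b) = X0 a + X0 b := rot_X0.add a b

theorem X0_facts : X0 pA = pA' ∧ X0 pA' = pA + pA' ∧ ∀ v, X0 (X0 (X0 v)) = v := by decide +kernel

theorem exists_between : ∀ g : V, qV 0 g = 1 → ∃ h : V, qV 0 h = 1 ∧ B g h = 1 ∧ B h pA = 1 := by decide +kernel

theorem refl_sum {g h : V} (h1 : B g h = 1) : refl (g + h) g = h := by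
  simp [refl, B_add_right, B_self, h1, ← add_assoc, addV]

theorem move_first (g : V) (hg : qV 0 g = 1) : ∃ s : V, (qV 0 s = 1 ∨ s = 0) ∧ ∃ t : V, (qV 0 t = 1 ∨ t = 0) ∧
    refl t (refl s g) = pA := by
  obtain ⟨h, hh, h1, h2⟩ := exists_between g hg
  refine ⟨g + h, Or.inl ?_, h + pA, Or.inl ?_, ?_⟩
  · rw [qV_add, hg, hh, h1]; rfl
  · rw [qV_add, hh, rot_X0.qw, h2]; rfl
  · rw [refl_sum h1, refl_sum h2]

theorem move_second : ∀ h : V, qV 0 h = 1 → B pA h = 1 → ∃ s : V, (qV 0 s = 1 ∨ s = 0) ∧ B pA s = 0 ∧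
    ∃ t : V, (qV 0 t = 1 ∨ t = 0) ∧ B pA t = 0 ∧ refl t (refl s h) = pA' := by decide +kernel

/-- An additive bijection preserving the form. -/
structure Iso (M : V → V) : Prop where
  add : ∀ a b, M (a + b) = M a + M b
  q : ∀ v, qV 0 (M v) = qV 0 v
  bij : Function.Bijective M

theorem Iso.B {M : V → V} (hM : Iso M) (a b : V) : CoOneType.B (M a) (M b) = CoOneType.B a b := by
  have h := hM.q (a + b)
  rw [hM.add, qV_add, qV_add, hM.q, hM.q] at h
  exact add_left_cancel h

theorem Iso.zero {M : V → V} (hM : Iso M) : M 0 = 0 := by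
  have h := hM.add 0 0
  rw [add_zero] at h
  exact left_eq_add.mp h

theorem Iso.refl_apply {M : V → V} (hM : Iso M) (a v : V) : M (refl a v) = refl (M a) (M v) := by
  simp only [refl, hM.B, hM.add]
  rcases zcases (CoOneType.B v a) with h | h <;> simp [h, hM.zero]

theorem exists_normal {w w' : V} (hw : qV 0 w = 1) (hw' : qV 0 w' = 1) (hb : B w w' = 1) :
    ∃ M, Iso M ∧ M w = pA ∧ M w' = pA' := by
  obtain ⟨s, hs, t, ht, hst⟩ := move_first w hw
  have rB : ∀ {a : V}, (qV 0 a = 1 ∨ a = 0) → ∀ u v, B (refl a u) (refl a v) = B u v := fun {a} ha u v => by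
    have h := qV_add 0 (refl a u) (refl a v)
    rw [← refl_add, refl_q 0 _ _ ha, refl_q 0 _ _ ha, refl_q 0 _ _ ha, qV_add] at h
    exact (add_left_cancel h).symm
  obtain ⟨s', hs', hs'A, t', ht', ht'A, hst'⟩ := move_second (refl t (refl s w'))
    (by rw [refl_q 0 _ _ ht, refl_q 0 _ _ hs, hw']) (by rw [← hst, rB ht, rB hs, hb])
  refine ⟨fun u => refl t' (refl s' (refl t (refl s u))), ⟨fun a b => by simp only [refl_add],
    fun v => by rw [refl_q 0 _ _ ht', refl_q 0 _ _ hs', refl_q 0 _ _ ht, refl_q 0 _ _ hs], ?_⟩, ?_, hst'⟩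
  · refine Function.bijective_iff_has_inverse.2 ⟨fun u => refl s (refl t (refl s' (refl t' u))), fun u => ?_, fun u => ?_⟩
      <;> simp [refl_refl]
  · show refl t' (refl s' (refl t (refl s w))) = pA
    rw [hst]
    simp [refl, hs'A, ht'A]

/-! ### The fixed space of the normal form -/

abbrev Six := (Fin 2 ⊕ Fin 2) ⊕ Fin 2 → ZMod 2

/-- The fixed space in coordinates of minus type. -/
def emb (u : Six) : V :=
  ((u (.inl (.inl 0)), u (.inl (.inr 0))), ((u (.inl (.inl 1)), u (.inl (.inr 1))),
    ((u (.inr 0) + u (.inr 1), u (.inr 0) + u (.inr 1)), (u (.inr 0), u (.inr 1)))))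

/-- The coordinates. -/
def proj (v : V) : Six := Sum.elim (Sum.elim ![v.1.1, v.2.1.1] ![v.1.2, v.2.1.2]) ![v.2.2.2.1, v.2.2.2.2]

theorem proj_add (a b : V) : proj (a + b) = proj a + proj b := by
  funext i; rcases i with (i | i) | i <;> fin_cases i <;> rfl

theorem emb_add (a b : Six) : emb (a + b) = emb a + emb b := by
  simp only [emb, Pi.add_apply, Prod.mk_add_mk, Prod.mk.injEq, true_and, and_true]
  constructor <;> abel

theorem proj_emb (u : Six) : proj (emb u) = u := by
  funext i; rcases i with (i | i) | i <;> fin_cases i <;> rfl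

theorem emb_perp (u : Six) : B (emb u) pA = 0 ∧ B (emb u) pA' = 0 := by
  simp only [emb, pA, pA', B, BW, pB]
  generalize u (.inr 0) = a
  generalize u (.inr 1) = b
  revert a b
  simp only [mul_zero, zero_add, mul_one, add_zero, zero_mul]
  decide

theorem X0_emb (u : Six) : X0 (emb u) = emb u := rot_X0.fix (emb_perp u).1 (emb_perp u).2

theorem emb_proj : ∀ v : V, X0 v = v → emb (proj v) = v := by decide +kernel

theorem emb_q (u : Six) : qV 0 (emb u) = CfsgLib.Orth.minusQ 2 (ZMod 2) 1 1 u := by
  rw [CfsgLib.Orth.minusQ_coe]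
  simp only [qV, qW, emb, Cfsg.quadFormMinus, Fin.sum_univ_two, pow_two, sq2, zero_mul, add_zero, one_mul]
  ring_nf

theorem emb_injective : Function.Injective emb := fun a b h => by rw [← proj_emb a, h, proj_emb]

theorem card_fix : (Finset.univ.filter fun v : V => X0 v = v).card = 64 := by decide +kernel

theorem fix_radical : ∀ v : V, X0 v = v → v ≠ 0 → ∃ a : V, X0 a = a ∧ B a v = 1 := by decide +kernel

theorem fix_singular : ∃ v : V, X0 v = v ∧ qV 0 v = 0 ∧ v ≠ 0 := ⟨x0, by decide +kernel⟩

/-! ### Maps commuting with the normal form -/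

theorem refl_comm {a b : V} (h : B a b = 0) (v : V) : refl a (refl b v) = refl b (refl a v) := by
  have h' : B b a = 0 := by rw [B_comm, h]
  rcases zcases (B v a) with ha | ha <;> rcases zcases (B v b) with hb | hb <;>
    simp [refl, B_add_left, ha, hb, h, h', B_zero_left, add_right_comm]

theorem X0_fix_iff {v : V} : X0 v = v ↔ B v pA = 0 ∧ B v pA' = 0 :=
  ⟨rot_X0.perp, fun h => rot_X0.fix h.1 h.2⟩

theorem X0_move (v : V) : X0 v + v = 0 ∨ X0 v + v = pA ∨ X0 v + v = pA' ∨ X0 v + v = pA + pA' := rot_X0.move v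

theorem refl_X0 {a : V} (h : B a pA = 0) (h' : B a pA' = 0) (v : V) : refl a (X0 v) = X0 (refl a v) := by
  rw [X0, X0, refl_comm h, refl_comm h']

/-- A commuting isometry is a power of the rotation on the plane. -/
theorem plane_pow {g : V → V} (hadd : ∀ a b, g (a + b) = g a + g b) (hq : ∀ v, qV 0 (g v) = qV 0 v)
    (hcomm : ∀ v, g (X0 v) = X0 (g v)) : ∃ k : Fin 3, g pA = X0^[(k : ℕ)] pA ∧ g pA' = X0^[(k : ℕ)] pA' := by
  obtain ⟨h1, h2, h3⟩ := X0_facts
  have e : g pA = X0 (g pA') + g pA' := by
    rw [← hcomm, ← hadd, h2, add_assoc, addV, add_zero]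
  have h' : g pA' = X0 (g pA) := by rw [← hcomm, h1]
  rcases X0_move (g pA') with h | h | h | h <;> rw [h] at e
  · exfalso
    have := hq pA
    rw [e, qV_zero, rot_X0.qw] at this
    exact zero_ne_one this
  · exact ⟨0, e, by rw [h', e]; exact h1⟩
  · exact ⟨1, e.trans h1.symm, by rw [h', e]; rfl⟩
  · refine ⟨2, e.trans ?_, ?_⟩
    · show _ = X0 (X0 pA)
      rw [h1, h2]
    · rw [h', e]
      show X0 (pA + pA') = X0 (X0 pA')
      rw [h2]

theorem X0_iter_add : ∀ (n : ℕ) (a b : V), X0^[n] (a + b) = X0^[n] a + X0^[n] b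
  | 0, _, _ => rfl
  | n + 1, a, b => by rw [Function.iterate_succ_apply', Function.iterate_succ_apply', Function.iterate_succ_apply',
      X0_iter_add n, X0_add]

theorem X0_iter_fix {v : V} (h : X0 v = v) (n : ℕ) : X0^[n] v = v := Function.iterate_fixed h n

/-- A commuting isometry fixing the fixed space is a power of the rotation. -/
theorem eq_pow_of_fix {g : V → V} (hadd : ∀ a b, g (a + b) = g a + g b) (hq : ∀ v, qV 0 (g v) = qV 0 v)
    (hcomm : ∀ v, g (X0 v) = X0 (g v)) (hfix : ∀ v, X0 v = v → g v = v) : ∃ k : Fin 3, g = X0^[(k : ℕ)] := by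
  obtain ⟨-, -, h3⟩ := X0_facts
  obtain ⟨k, hA, hA'⟩ := plane_pow hadd hq hcomm
  refine ⟨k, funext fun v => ?_⟩
  have hdec : v = (v + X0 v + X0 (X0 v)) + (X0 (X0 v) + X0 v) := by
    rw [show (v + X0 v + X0 (X0 v)) + (X0 (X0 v) + X0 v) = v + (X0 v + X0 v) + (X0 (X0 v) + X0 (X0 v)) by abel]
    simp [addV]
  have hm : X0 (v + X0 v + X0 (X0 v)) = v + X0 v + X0 (X0 v) := by rw [X0_add, X0_add, h3]; abel
  have hu : g (X0 (X0 v) + X0 v) = X0^[(k : ℕ)] (X0 (X0 v) + X0 v) := by
    rcases X0_move (X0 v) with h | h | h | h <;> rw [h]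
    · rw [hfix 0 (rot_X0.fix (B_zero_left _) (B_zero_left _)), X0_iter_fix (rot_X0.fix (B_zero_left _) (B_zero_left _))]
    · exact hA
    · exact hA'
    · rw [hadd, X0_iter_add, hA, hA']
  rw [hdec, hadd, X0_iter_add, hfix _ hm, X0_iter_fix hm, hu]

/-- The image of an additive map plus the identity, when many vectors are fixed. -/
theorem card_move_le {f : V → V} (hadd : ∀ a b, f (a + b) = f a + f b)
    (hfix : 64 ≤ (Finset.univ.filter fun v => f v = v).card) :
    (Finset.univ.image fun v => f v + v).card ≤ 4 := by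
  classical
  let g : V →+ V := AddMonoidHom.mk' (fun v => f v + v) fun a b => by rw [hadd]; abel
  have hg : ∀ v, g v = 0 ↔ f v = v := fun v => ⟨fun h => eqV h, fun h => by show f v + v = 0; rw [h, addV]⟩
  have hk : Nat.card g.ker = (Finset.univ.filter fun v => f v = v).card := by
    rw [← Fintype.card_subtype, ← Nat.card_eq_fintype_card]
    exact Nat.card_congr (Equiv.subtypeEquivRight fun v => hg v)
  have hr : Nat.card g.range = (Finset.univ.image fun v => f v + v).card := by
    rw [← Nat.card_eq_finsetCard]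
    exact Nat.card_congr (Equiv.subtypeEquivRight fun u => by simp [g, AddMonoidHom.mem_range])
  have h := AddSubgroup.card_eq_card_quotient_mul_card_addSubgroup g.ker
  rw [Nat.card_congr (QuotientAddGroup.quotientKerEquivRange g).toEquiv, hk, hr,
    show Nat.card V = 256 by simp [Nat.card_prod]] at h
  nlinarith

end CfsgLib.CoOneType.SuzCent
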