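import Cfsg.Agent.Lib.CoOneType.Coord
import Cfsg.Agent.Lib.CoOneType.SuzCent.Plane

/-!
Coordinates in which a given element of order three rotates the standard plane.
-/

set_option autoImplicit false
set_option linter.style.longLine false
set_option maxHeartbeats 1000000
set_option synthInstance.maxSize 8000
set_option synthInstance.maxHeartbeats 1000000

namespace CfsgLib.CoOneType.SuzCent

open Subgroup

variable {G : Type*} [Group G] [Finite G] {z : G} {Q : Subgroup G}

/-- Coordinates moved by an isometry. -/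
def mapCoord (K : Coord z Q 0) {M : V → V} (hM : Iso M) : Coord z Q 0 where
  vec x := M (K.vec x)
  mul hx hy := by rw [K.mul hx hy, hM.add]
  zero_iff hx := by
    rw [← K.zero_iff hx]
    exact ⟨fun h => hM.bij.1 (h.trans hM.zero.symm), fun h => by rw [h, hM.zero]⟩
  surj v := by
    obtain ⟨u, rfl⟩ := hM.bij.2 v
    obtain ⟨x, hx, rfl⟩ := K.surj u
    exact ⟨x, hx, rfl⟩
  sq hx := by rw [K.sq hx, hM.q]
  conj hx hy := by rw [K.conj hx hy, hM.B]

theorem act_mapCoord (K : Coord z Q 0) (H : Hyp z Q) {M : V → V} (hM : Iso M) {c : G} (hc : c * z = z * c) (v : V) :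
    (mapCoord K hM).act c (M v) = M (K.act c v) := by
  conv_lhs => rw [← K.vec_lift v]
  exact (mapCoord K hM).act_vec H hc (K.lift_mem v)

/-- Coordinates in which `x` rotates the standard plane. -/
structure Rotates (K : Coord z Q 0) (x : G) : Prop where
  hyp : Hyp z Q
  ord : orderOf x = 3
  xz : x * z = z * x
  act : K.act x = X0

theorem exists_rot_act (K : Coord z Q 0) (H : Hyp z Q) {x : G} (hx : orderOf x = 3) (hxz : x * z = z * x)
    {U : Finset V} (hU : ∀ v, K.act x v + v ∈ U) (hU4 : U.card ≤ 4) : ∃ w w', Rot (K.act x) w w' := by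
  refine exists_rot (K.act_add H hxz) (K.act_q H hxz) (fun v => ?_) hU hU4 ?_
  · rw [← K.act_mul H hxz hxz, ← K.act_mul H (Commute.mul_left hxz hxz).eq hxz,
      show x * x * x = x ^ 3 by rw [pow_succ, pow_two], ← hx, pow_orderOf_eq_one, K.act_one H]
  · by_contra hcon
    push Not at hcon
    have h1 : orderOf x ∣ 512 := by
      rw [← H.card, ← Subgroup.orderOf_mk x (K.mem_of_act H hxz hcon)]
      exact orderOf_dvd_natCard _
    rw [hx] at h1
    norm_num at h1

theorem exists_rotates (K : Coord z Q 0) (H : Hyp z Q) {x : G} (hx : orderOf x = 3) (hxz : x * z = z * x)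
    {w w' : V} (R : Rot (K.act x) w w') :
    ∃ (M : V → V) (hM : Iso M), M w = pA ∧ M w' = pA' ∧ Rotates (mapCoord K hM) x := by
  obtain ⟨M, hM, e1, e2⟩ := exists_normal R.qw R.qw' R.bw
  refine ⟨M, hM, e1, e2, H, hx, hxz, funext fun v => ?_⟩
  obtain ⟨u, rfl⟩ := hM.bij.2 v
  rw [act_mapCoord K H hM hxz, R.apply, hM.refl_apply, hM.refl_apply, e1, e2]
  rfl

end CfsgLib.CoOneType.SuzCent
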