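import Cfsg.Agent.Lib.CoOneType.SuzCent.Pair
import Cfsg.Agent.Lib.Presented.SuzSimple
import Cfsg.Agent.Lib.Components.Basic
import Cfsg.Prelude.Def_Spor_Suz
import Cfsg.Prelude.Def_CaseTheorems

/-!
The centraliser of an element rotating a plane is quasisimple with quotient the Suzuki group, given the
uniqueness of that group and the quasisimplicity of the corresponding centraliser inside it.
-/

set_option autoImplicit false
set_option linter.style.longLine false
set_option maxHeartbeats 1000000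
set_option synthInstance.maxSize 8000
set_option synthInstance.maxHeartbeats 1000000

universe u

namespace CfsgLib.CoOneType.SuzCent

open Subgroup
open scoped commutatorElement
open CfsgLib.MonsterType CfsgLib.MonsterType.Local

/-- The uniqueness theorem for the Suzuki group, as a property. -/
def SuzProp : Prop :=
  ∀ {G : Type u} [Group G] [Finite G] (z : G), orderOf z = 2 →
    ∀ (Q : Subgroup (centralizer ({z} : Set G))) [Q.Normal],
    Cfsg.generalizedFittingSubgroup (centralizer ({z} : Set G)) = Q → Cfsg.IsExtraspecial 2 Q → Nat.card Q = 2 ^ 7 →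
    ((centralizer ({z} : Set G)) ⧸ Q ≃* Cfsg.Omega (ZMod 2) (Cfsg.quadFormMinus 2 (ZMod 2) 1 1)) →
    (∃ g : G, (∃ hq : g * z * g⁻¹ ∈ centralizer ({z} : Set G),
      (⟨g * z * g⁻¹, hq⟩ : centralizer ({z} : Set G)) ∈ Q) ∧ g * z * g⁻¹ ≠ z) →
    Cfsg.Spor.IsoSuz G

/-- The quasisimplicity of the centraliser of a quaternion-type element in the Suzuki group, as a property. -/
def QuasiProp : Prop :=
  ∀ {G : Type u} [Group G] [Finite G] (z : G), orderOf z = 2 →
    ∀ (Q : Subgroup (centralizer ({z} : Set G))) [Q.Normal],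
    Cfsg.generalizedFittingSubgroup (centralizer ({z} : Set G)) = Q → Cfsg.IsExtraspecial 2 Q → Nat.card Q = 2 ^ 7 →
    ((centralizer ({z} : Set G)) ⧸ Q ≃* Cfsg.Omega (ZMod 2) (Cfsg.quadFormMinus 2 (ZMod 2) 1 1)) →
    (∃ g : G, (∃ hq : g * z * g⁻¹ ∈ centralizer ({z} : Set G),
      (⟨g * z * g⁻¹, hq⟩ : centralizer ({z} : Set G)) ∈ Q) ∧ g * z * g⁻¹ ≠ z) →
    ∀ Y : Subgroup (centralizer ({z} : Set G)), Nat.card Y = 3 → Nat.card ↥⁅Q, Y⁆ = 8 →
    ¬ IsMulCommutative ↥⁅Q, Y⁆ →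
    Cfsg.IsQuasisimple ↥(centralizer ((Y.map (centralizer ({z} : Set G)).subtype) : Set G))

theorem quasisimple_of_quot {H : Type*} [Group H] (N : Subgroup H) [N.Normal] (hcen : N ≤ center H)
    [IsSimpleGroup (H ⧸ N)] (hnc : ∃ a b : H ⧸ N, a * b ≠ b * a) (hN : N ≤ commutator H) :
    Cfsg.IsQuasisimple H := by
  have hs : Function.Surjective (QuotientGroup.mk' N) := QuotientGroup.mk'_surjective N
  have hle : (center H).map (QuotientGroup.mk' N) ≤ center (H ⧸ N) := by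
    rintro _ ⟨c, hc, rfl⟩
    refine mem_center_iff.2 fun w => ?_
    obtain ⟨h, rfl⟩ := hs w
    rw [← map_mul, ← map_mul, mem_center_iff.1 hc h]
  have hceq : center H = N := by
    refine le_antisymm ?_ hcen
    rcases (inferInstance : (center (H ⧸ N)).Normal).eq_bot_or_eq_top with h | h
    · rw [h, le_bot_iff, Subgroup.map_eq_bot_iff, QuotientGroup.ker_mk'] at hle
      exact hle
    · obtain ⟨a, b, hab⟩ := hnc
      exact absurd (mem_center_iff.1 (h ▸ mem_top b : b ∈ center (H ⧸ N)) a) hab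
  refine ⟨⟨?_⟩, (QuotientGroup.quotientMulEquivOfEq hceq).isSimpleGroup⟩
  have hm : (commutator H).map (QuotientGroup.mk' N) = ⊤ := by
    have hn : (commutator (H ⧸ N)).Normal := inferInstance
    rw [_root_.commutator_def, map_commutator, map_top_of_surjective _ hs, ← _root_.commutator_def]
    refine hn.eq_bot_or_eq_top.resolve_left fun h => ?_
    obtain ⟨a, b, hab⟩ := hnc
    refine hab (commutatorElement_eq_one_iff_mul_comm.1 ?_)
    rw [← mem_bot, ← h, _root_.commutator_def]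
    exact commutator_mem_commutator (mem_top a) (mem_top b)
  rw [eq_top_iff]
  intro c _
  obtain ⟨l, hl, hlc⟩ := (hm.symm ▸ mem_top (QuotientGroup.mk' N c) :
    QuotientGroup.mk' N c ∈ (commutator H).map (QuotientGroup.mk' N))
  have := mul_mem hl (hN (QuotientGroup.eq.1 hlc))
  rwa [mul_inv_cancel_left] at this

theorem zpowers_subgroupOf_le {G : Type*} [Group G] (x : G) :
    (zpowers x).subgroupOf (centralizer (zpowers x : Set G)) ≤ center ↥(centralizer (zpowers x : Set G)) :=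
  fun _ ha => mem_center_iff.2 fun g => Subtype.ext (mem_centralizer_iff.1 g.2 _ ha).symm

theorem zpowers_subgroupOf_normal {G : Type*} [Group G] (x : G) :
    ((zpowers x).subgroupOf (centralizer (zpowers x : Set G))).Normal :=
  ⟨fun n hn g => by
    rwa [mem_center_iff.1 (zpowers_subgroupOf_le x hn) g, mul_inv_cancel_right]⟩

theorem card_eight {H : Type*} [Group H] [Finite H] {A W : Subgroup H} (hA : A ≤ W) (hW : Nat.card W = 8)
    {a b : H} (ha : a ∈ A) (hb : b ∈ A) (hab : a * b ≠ b * a) : Nat.card A = 8 ∧ ¬ IsMulCommutative ↥A := by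
  have : Fact (Nat.Prime 2) := ⟨Nat.prime_two⟩
  have hn : ¬ IsMulCommutative ↥A := fun h => hab (congrArg Subtype.val (h.is_comm.comm ⟨a, ha⟩ ⟨b, hb⟩))
  refine ⟨?_, hn⟩
  obtain ⟨k, hk, hk'⟩ := (Nat.dvd_prime_pow Nat.prime_two).1 (show Nat.card A ∣ 2 ^ 3 from (card_dvd_of_le hA).trans (by rw [hW]; norm_num))
  interval_cases k
  · have := (Nat.card_eq_one_iff_unique.1 hk').1
    exact absurd ⟨⟨fun u v => Subsingleton.elim _ _⟩⟩ hn
  · have := isCyclic_of_prime_card (α := ↥A) (p := 2) hk'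
    exact absurd ⟨⟨fun u v => (IsCyclic.commGroup (α := ↥A)).mul_comm u v⟩⟩ hn
  · exact absurd ⟨⟨(IsPGroup.commGroupOfCardEqPrimeSq (G := ↥A) (p := 2) hk').mul_comm⟩⟩ hn
  · exact hk'

namespace Rotates

variable {G : Type u} [Group G] [Finite G] {z : G} {Q₀ : Subgroup (cz z)} [Q₀.Normal] {K : Coord z (qm Q₀) 0}
  {x y : G}

/-- An element rotating a plane of vectors fixed by `y` is, modulo `⟨y⟩`, in the derived group of its centraliser. -/
theorem mem_commutator_mod (T : Rotates K y) (hS : Cfsg.IsExtraspecialCentralizerSetting z Q₀ 4)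
    (hx : orderOf x = 3) (hxz : x * z = z * x) (hxy : x * y = y * x) (hnx : x ∉ zpowers y)
    {a a' : V} (ha : X0 a = a) (ha' : X0 a' = a') (R : Rot (K.act x) a a') (hU : QuasiProp.{u}) :
    ∃ l ∈ (commutator ↥(centralizer (zpowers x : Set G))).map (centralizer (zpowers x : Set G)).subtype,
      l⁻¹ * x ∈ zpowers y := by
  classical
  have : Fact (Nat.Prime 3) := ⟨Nat.prime_three⟩
  have H := T.hyp
  have hne := H.extra.ne_one
  have := zpowers_subgroupOf_normal y
  set C2 := centralizer (zpowers y : Set G) with hC2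
  have hzC : z ∈ C2 := mem_centralizer_zpowers.2 T.xz.symm
  set N2 := (zpowers y).subgroupOf C2 with hN2
  let π : ↥C2 →* ↥C2 ⧸ N2 := QuotientGroup.mk' N2
  have hπ : ∀ c : ↥C2, π c = 1 ↔ (c : G) ∈ zpowers y := fun c => QuotientGroup.eq_one_iff c
  have hπeq : ∀ c d : ↥C2, π c = π d ↔ (c : G)⁻¹ * d ∈ zpowers y := fun c d => QuotientGroup.eq
  have hQp : IsPGroup 2 ↥(qm Q₀) := IsPGroup.of_card (p := 2) (n := 9) (by rw [H.card]; norm_num)
  have hinj : ∀ c d : ↥C2, (c : G) ∈ qm Q₀ → (d : G) ∈ qm Q₀ → π c = π d → c = d := fun c d hc hd h =>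
    Subtype.ext (inv_mul_eq_one.1 (eq_one_of_two_odd hQp (by decide) T.ord (mul_mem (inv_mem hc) hd)
      ((hπeq c d).1 h)))
  set zb : ↥C2 ⧸ N2 := QuotientGroup.mk ⟨z, hzC⟩ with hzb
  have hset := T.setting hS hzC
  rw [← hzb] at hset
  obtain ⟨R2, hR2n, hS2, ⟨e2⟩, hmem⟩ := hset
  have hcz : ∀ c : ↥C2, (c : G) * z = z * c → π c ∈ cz zb := fun c hc => mem_centralizer_singleton_iff.2 <| by
    show π c * π ⟨z, hzC⟩ = π ⟨z, hzC⟩ * π c
    rw [← map_mul, ← map_mul]; exact congrArg π (Subtype.ext hc)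
  have hxC : x ∈ C2 := mem_centralizer_zpowers.2 hxy
  set xC : ↥C2 := ⟨x, hxC⟩ with hxCdef
  let xb : cz zb := ⟨π xC, hcz xC hxz⟩
  have hxb : orderOf xb = 3 := by
    refine orderOf_eq_prime (Subtype.ext ?_) fun h => hnx ((hπ xC).1 (congrArg Subtype.val h))
    show π xC ^ 3 = 1
    rw [← map_pow, hπ]
    show x ^ 3 ∈ zpowers y
    rw [← hx, pow_orderOf_eq_one]
    exact one_mem _
  -- the four vectors
  set U : Finset V := {0, a, a', a + a'} with hUdef
  have hUadd : ∀ u ∈ U, ∀ v ∈ U, u + v ∈ U := by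
    intro u hu v hv
    simp only [hUdef, Finset.mem_insert, Finset.mem_singleton] at hu hv ⊢
    rcases hu with rfl | rfl | rfl | rfl <;> rcases hv with rfl | rfl | rfl | rfl <;>
      simp [addV, add_comm, add_left_comm]
  have hUfix : ∀ u ∈ U, X0 u = u := by
    intro u hu
    simp only [hUdef, Finset.mem_insert, Finset.mem_singleton] at hu
    rcases hu with rfl | rfl | rfl | rfl
    exacts [rot_X0.fix (B_zero_left _) (B_zero_left _), ha, ha', by rw [X0_add, ha, ha']]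
  have hUcard : U.card = 4 := by
    have a0 : a ≠ 0 := fun h => by have := R.qw; rw [h, qV_zero] at this; exact zero_ne_one this
    have a0' : a' ≠ 0 := fun h => by have := R.qw'; rw [h, qV_zero] at this; exact zero_ne_one this
    have h1 : a ≠ a' := fun h => by have := R.bw; rw [h, B_self] at this; exact zero_ne_one this
    rw [hUdef, Finset.card_insert_of_notMem, Finset.card_insert_of_notMem, Finset.card_pair]
    · exact fun h => a0 (by simpa using h)
    · simp [h1, a0']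
    · simp only [Finset.mem_insert, Finset.mem_singleton, not_or]
      exact ⟨Ne.symm a0, Ne.symm a0', fun h => h1 (eqV h.symm)⟩
  have hmove : ∀ v, K.act x v + v ∈ U := fun v => by
    simp only [hUdef, Finset.mem_insert, Finset.mem_singleton]
    exact R.move v
  have hmoven : ∀ (n : ℕ) (v : V), K.act (x ^ n) v + v ∈ U := by
    intro n
    induction n with
    | zero => intro v; rw [pow_zero, K.act_one H, addV]; simp [hUdef]
    | succ n ih =>
      intro v
      rw [pow_succ', K.act_mul H hxz ((show Commute x z from hxz).pow_left n).eq,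
        show K.act x (K.act (x ^ n) v) + v =
          (K.act x (K.act (x ^ n) v) + K.act (x ^ n) v) + (K.act (x ^ n) v + v) by
          rw [add_assoc, ← add_assoc (K.act (x ^ n) v), addV, zero_add]]
      exact hUadd _ (hmove _) _ (ih v)
  -- their lifts in the quotient
  let Wb : Subgroup (cz zb) :=
    { carrier := {d | ∃ q : ↥C2, (q : G) ∈ qm Q₀ ∧ K.vec q ∈ U ∧ (d : ↥C2 ⧸ N2) = π q}
      one_mem' := ⟨1, one_mem _, by rw [Subgroup.coe_one, K.vec_one]; simp [hUdef], (map_one π).symm⟩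
      mul_mem' := by
        rintro d d' ⟨q, hq, hv, he⟩ ⟨q', hq', hv', he'⟩
        exact ⟨q * q', mul_mem hq hq', by rw [Subgroup.coe_mul, K.mul hq hq']; exact hUadd _ hv _ hv',
          by rw [Subgroup.coe_mul, he, he', map_mul]⟩
      inv_mem' := by
        rintro d ⟨q, hq, hv, he⟩
        exact ⟨q⁻¹, inv_mem hq, by rw [Subgroup.coe_inv, K.vec_inv hq]; exact hv,
          by rw [Subgroup.coe_inv, he, map_inv]⟩ }
  have hqC : ∀ {q : G}, q ∈ qm Q₀ → X0 (K.vec q) = K.vec q → q ∈ C2 := fun hq h =>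
    mem_centralizer_zpowers.2 ((T.comm_iff hq).2 h)
  have hWb : Nat.card Wb = 8 := by
    have h8 := K.card_lifts H (fun v => v ∈ U)
    rw [show (Finset.univ.filter fun v => v ∈ U) = U from Finset.ext fun v => by simp, hUcard] at h8
    rw [show (8 : ℕ) = 2 * 4 from rfl, ← h8]
    refine (Nat.card_congr (Equiv.ofBijective (fun q : {q : G // q ∈ qm Q₀ ∧ K.vec q ∈ U} =>
      (⟨⟨π ⟨q, hqC q.2.1 (hUfix _ q.2.2)⟩, hcz _ (H.extra.comm_z q.2.1)⟩,
        ⟨q, hqC q.2.1 (hUfix _ q.2.2)⟩, q.2.1, q.2.2, rfl⟩ : Wb)) ⟨fun p q h => ?_, ?_⟩)).symm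
    · have he := hinj ⟨p, hqC p.2.1 (hUfix _ p.2.2)⟩ ⟨q, hqC q.2.1 (hUfix _ q.2.2)⟩
        p.2.1 q.2.1 (congrArg (fun t : Wb => ((t : cz zb) : ↥C2 ⧸ N2)) h)
      exact Subtype.ext (congrArg (fun t : ↥C2 => (t : G)) he)
    · rintro ⟨d, q, hq, hv, he⟩
      exact ⟨⟨q, hq, hv⟩, Subtype.ext (Subtype.ext he.symm)⟩
  -- the commutator with the image of `x`
  have hcomm : ∀ {q : G}, q ∈ qm Q₀ → ∀ n : ℕ, q * x ^ n * q⁻¹ * (x ^ n)⁻¹ ∈ qm Q₀ ∧
      K.vec (q * x ^ n * q⁻¹ * (x ^ n)⁻¹) = K.act (x ^ n) (K.vec q) + K.vec q := by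
    intro q hq n
    have hn : x ^ n * z = z * x ^ n := ((show Commute x z from hxz).pow_left n).eq
    have hm := H.norm _ hn _ (inv_mem hq)
    rw [show q * x ^ n * q⁻¹ * (x ^ n)⁻¹ = q * (x ^ n * q⁻¹ * (x ^ n)⁻¹) by simp only [mul_assoc]]
    exact ⟨mul_mem hq hm, by rw [K.mul hq hm, ← K.act_vec H hn (inv_mem hq), K.vec_inv hq, add_comm]⟩
  have hle : ⁅R2, zpowers xb⁆ ≤ Wb := by
    refine Subgroup.commutator_le.2 fun r hr s hs => ?_
    obtain ⟨q, hq, hrq⟩ := (hmem r).1 hr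
    obtain ⟨n, rfl⟩ := (Submonoid.mem_powers_iff _ _).1 ((isOfFinOrder_of_finite xb).mem_powers_iff_mem_zpowers.2 hs)
    obtain ⟨h1, h2⟩ := hcomm (mem_fixQ.1 hq).1 n
    refine ⟨q * xC ^ n * q⁻¹ * (xC ^ n)⁻¹, by simpa [xC] using h1, ?_, ?_⟩
    · have h3 : K.vec ((q : G) * x ^ n * (q : G)⁻¹ * (x ^ n)⁻¹) ∈ U := h2 ▸ hmoven n _
      simpa [xC] using h3
    · simp only [commutatorElement_def, Subgroup.coe_mul, Subgroup.coe_inv, SubgroupClass.coe_pow, hrq, map_mul,
        map_inv, map_pow]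
      rfl
  have hmk : ∀ {v : V}, X0 v = v → ∃ u ∈ ⁅R2, zpowers xb⁆, ∃ q : ↥C2, (q : G) ∈ qm Q₀ ∧
      K.vec q = K.act x v + v ∧ (u : ↥C2 ⧸ N2) = π q := by
    intro v hv
    have hq := K.lift_mem v
    have hqC' : K.lift v ∈ C2 := hqC hq (by rw [K.vec_lift, hv])
    set q : ↥C2 := ⟨K.lift v, hqC'⟩ with hqdef
    have hr : (⟨π q, hcz q (H.extra.comm_z hq)⟩ : cz zb) ∈ R2 :=
      (hmem _).2 ⟨q, mem_fixQ.2 ⟨hq, mem_centralizer_zpowers.1 hqC'⟩, rfl⟩
    obtain ⟨h1, h2⟩ := hcomm hq 1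
    refine ⟨_, Subgroup.commutator_mem_commutator hr (mem_zpowers xb), q * xC * q⁻¹ * xC⁻¹,
      by simpa [xC, q] using h1, ?_, ?_⟩
    · simp only [pow_one, K.vec_lift] at h2
      simpa [xC, q] using h2
    · simp only [commutatorElement_def, Subgroup.coe_mul, Subgroup.coe_inv, map_mul, map_inv]
      rfl
  have hfa : K.act x a + a = a + a' := by rw [R.app_w, add_comm]
  have hfa' : K.act x a' + a' = a := by
    rw [R.apply]
    simp [refl, B_self, B_comm a' a, R.bw]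
    rw [show a' + a + a' = a + (a' + a') by abel, addV, add_zero]
  obtain ⟨u, hu, qu, hqu, hvu, heu⟩ := hmk ha
  obtain ⟨v, hv, qv, hqv, hvv, hev⟩ := hmk ha'
  rw [hfa] at hvu
  rw [hfa'] at hvv
  have huv : u * v ≠ v * u := fun h => by
    have h' : π (qu * qv) = π (qv * qu) := by
      rw [map_mul, map_mul, ← heu, ← hev]; exact congrArg Subtype.val h
    have h'' := congrArg Subtype.val (hinj _ _ (mul_mem hqu hqv) (mul_mem hqv hqu) h')
    have := (K.comm_iff hne hqu hqv).1 h''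
    rw [hvu, hvv, B_add_left, B_self, zero_add, B_comm a' a, R.bw] at this
    exact one_ne_zero this
  obtain ⟨hc8, hna⟩ := card_eight hle hWb hu hv huv
  have hperf := (hU zb hS2.1 R2 hS2.2.1 hS2.2.2.1 hS2.2.2.2.1 e2 hS2.2.2.2.2 (zpowers xb)
    (by rw [Nat.card_zpowers, hxb]) hc8 hna).1.commutator_eq_top
  set P := centralizer (((zpowers xb).map (cz zb).subtype : Subgroup _) : Set (↥C2 ⧸ N2)) with hP
  have hPmem : ∀ d, d ∈ P ↔ d * π xC = π xC * d := fun d => by
    rw [hP, MonoidHom.map_zpowers]; exact mem_centralizer_zpowers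
  have htc : ∀ t : ↥C2, (t : G) ∈ zpowers y → ∀ g : ↥C2, g * t = t * g := fun t ht g =>
    mem_center_iff.1 (zpowers_subgroupOf_le y ht) g
  have hDt : ∀ c : ↥(P.comap π), (((c : ↥C2) * xC * (c : ↥C2)⁻¹ * xC⁻¹ : ↥C2) : G) ∈ zpowers y := fun c => by
    rw [← hπ, map_mul, map_mul, map_mul, map_inv, map_inv, (hPmem _).1 c.2, mul_inv_cancel_right, mul_inv_cancel]
  let f : ↥(P.comap π) →* ↥C2 := MonoidHom.mk' (fun c => (c : ↥C2) * xC * (c : ↥C2)⁻¹ * xC⁻¹) fun c d => by
    set t := (d : ↥C2) * xC * (d : ↥C2)⁻¹ * xC⁻¹ with ht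
    rw [htc t (hDt d), Subgroup.coe_mul,
      show t * ((c : ↥C2) * xC * (c : ↥C2)⁻¹ * xC⁻¹) = (t * c) * (xC * (c : ↥C2)⁻¹ * xC⁻¹) by group,
      ← htc t (hDt d), ht]
    group
  let π' : ↥(P.comap π) →* ↥P := π.subgroupComap P
  have hπ's : Function.Surjective π' := fun p => by
    obtain ⟨c, hc⟩ := QuotientGroup.mk'_surjective N2 (p : ↥C2 ⧸ N2)
    exact ⟨⟨c, show π c ∈ P by rw [show π c = (p : ↥C2 ⧸ N2) from hc]; exact p.2⟩, Subtype.ext hc⟩
  have hdec : ∀ c : ↥(P.comap π), ∃ l ∈ commutator ↥(P.comap π), ((l : ↥C2) : G)⁻¹ * (c : ↥C2) ∈ zpowers y := by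
    intro c
    have hm : π' c ∈ (commutator ↥(P.comap π)).map π' := by
      rw [_root_.commutator_def, map_commutator, map_top_of_surjective _ hπ's, ← _root_.commutator_def, hperf]
      exact mem_top _
    obtain ⟨l, hl, hlc⟩ := hm
    exact ⟨l, hl, (hπeq _ _).1 (congrArg Subtype.val hlc)⟩
  have hker : commutator ↥(P.comap π) ≤ f.ker := by
    rw [_root_.commutator_def]
    refine Subgroup.commutator_le.2 fun c _ d _ => ?_
    rw [MonoidHom.mem_ker, map_commutatorElement]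
    exact commutatorElement_eq_one_iff_mul_comm.2 (htc (f d) (hDt d) (f c))
  have hcx : ∀ c : ↥(P.comap π), ((c : ↥C2) : G) * x = x * (c : ↥C2) := by
    intro c
    obtain ⟨l, hl, ht⟩ := hdec c
    have h1 : f (l⁻¹ * c) = 1 := by
      show ((l⁻¹ * c : ↥(P.comap π)) : ↥C2) * xC * ((l⁻¹ * c : ↥(P.comap π)) : ↥C2)⁻¹ * xC⁻¹ = 1
      rw [← htc ((l⁻¹ * c : ↥(P.comap π)) : ↥C2) ht xC, mul_inv_cancel_right, mul_inv_cancel]
    have h2 : f c = 1 := by
      rw [show c = l * (l⁻¹ * c) by rw [mul_inv_cancel_left], map_mul, hker hl, h1, one_mul]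
    exact mul_inv_eq_iff_eq_mul.1 (mul_inv_eq_one.1 (congrArg Subtype.val h2))
  let ι : ↥(P.comap π) →* ↥(centralizer (zpowers x : Set G)) :=
    MonoidHom.mk' (fun c => ⟨((c : ↥C2) : G), mem_centralizer_zpowers.2 (hcx c)⟩) fun _ _ => rfl
  obtain ⟨l, hl, ht⟩ := hdec ⟨xC, show π xC ∈ P from (hPmem _).2 rfl⟩
  refine ⟨((l : ↥C2) : G), ⟨ι l, ?_, rfl⟩, ht⟩
  have hm : (commutator ↥(P.comap π)).map ι ≤ commutator ↥(centralizer (zpowers x : Set G)) := by
    rw [_root_.commutator_def, map_commutator, _root_.commutator_def]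
    exact commutator_mono le_top le_top
  exact hm ⟨l, hl, rfl⟩

/-- The centraliser of `x` is quasisimple and covers the Suzuki group. -/
theorem quasisimple (T : Rotates K x) (hS : Cfsg.IsExtraspecialCentralizerSetting z Q₀ 4)
    (hy : ∃ y : G, orderOf y = 3 ∧ y * z = z * y ∧ y * x = x * y ∧ y ∉ zpowers x ∧
      16 ≤ (Finset.univ.filter fun v : V => X0 v = v ∧ K.act y v = v).card ∧
      ∃ a b : V, (X0 a = a ∧ K.act y a = a) ∧ (X0 b = b ∧ K.act y b = b) ∧ B a b = 1)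
    (hSuz : SuzProp.{u}) (hU : QuasiProp.{u})
    [((zpowers x).subgroupOf (centralizer (zpowers x : Set G))).Normal] :
    Cfsg.IsQuasisimple ↥(centralizer (zpowers x : Set G)) ∧
      Cfsg.Spor.IsoSuz (↥(centralizer (zpowers x : Set G)) ⧸
        (zpowers x).subgroupOf (centralizer (zpowers x : Set G))) := by
  classical
  have : Fact (Nat.Prime 3) := ⟨Nat.prime_three⟩
  have H := T.hyp
  set C1 := centralizer (zpowers x : Set G) with hC1
  set N := (zpowers x).subgroupOf C1 with hN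
  have hzH : z ∈ C1 := mem_centralizer_zpowers.2 T.xz.symm
  obtain ⟨R, hRn, hS1, ⟨e1⟩, -⟩ := T.setting hS hzH
  have hiso : Cfsg.Spor.IsoSuz (↥C1 ⧸ N) :=
    hSuz _ hS1.1 R hS1.2.1 hS1.2.2.1 hS1.2.2.2.1 e1 hS1.2.2.2.2
  refine ⟨?_, hiso⟩
  obtain ⟨f⟩ := hiso
  have := CfsgLib.Presented.SuzSimple.simple
  have : IsSimpleGroup (↥C1 ⧸ N) := f.isSimpleGroup
  have hnc : ∃ a b : ↥C1 ⧸ N, a * b ≠ b * a := by
    by_contra hcon
    push Not at hcon
    have hct : center ↥R = ⊤ := eq_top_iff.2 fun r _ => mem_center_iff.2 fun s => Subtype.ext (Subtype.ext (hcon _ _))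
    have h2 := hS1.2.2.1.2
    rw [hct, card_top, hS1.2.2.2.1] at h2
    norm_num at h2
  refine quasisimple_of_quot N (zpowers_subgroupOf_le x) hnc ?_
  set L := commutator ↥C1 with hL
  set LG := L.map C1.subtype with hLG
  have hm : L.map (QuotientGroup.mk' N) = ⊤ := by
    have hn : (commutator (↥C1 ⧸ N)).Normal := inferInstance
    rw [hL, _root_.commutator_def, map_commutator, map_top_of_surjective _ (QuotientGroup.mk'_surjective N), ← _root_.commutator_def]
    refine hn.eq_bot_or_eq_top.resolve_left fun h => ?_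
    obtain ⟨a, b, hab⟩ := hnc
    refine hab (commutatorElement_eq_one_iff_mul_comm.1 ?_)
    rw [← mem_bot, ← h, _root_.commutator_def]
    exact commutator_mem_commutator (mem_top a) (mem_top b)
  have hcube : ∀ c : ↥C1, c ^ 3 ∈ L := by
    intro c
    obtain ⟨l, hl, hlc⟩ := (hm.symm ▸ mem_top (QuotientGroup.mk' N c) :
      QuotientGroup.mk' N c ∈ L.map (QuotientGroup.mk' N))
    set n := l⁻¹ * c with hn
    have hnN : n ∈ N := QuotientGroup.eq.1 hlc
    have hn3 : n ^ 3 = 1 := Subtype.ext <| orderOf_dvd_iff_pow_eq_one.1 (T.ord ▸ orderOf_dvd_of_mem_zpowers hnN)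
    rw [show c = l * n by rw [hn, mul_inv_cancel_left],
      (show Commute l n from mem_center_iff.1 (zpowers_subgroupOf_le x hnN) l).mul_pow, hn3, mul_one]
    exact pow_mem hl 3
  have hQL : ∀ {q : G}, q ∈ qm Q₀ → q * x = x * q → q ∈ LG := by
    intro q hq hqx
    have h4 : q ^ 4 = 1 := by
      rw [show q ^ 4 = (q * q) * (q * q) by simp only [pow_succ, pow_zero, one_mul, mul_assoc]]
      rcases H.extra.sq_cases hq with h | h
      · rw [h, one_mul]
      · rw [h, H.extra.sq_one]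
    refine ⟨⟨q, mem_centralizer_zpowers.2 hqx⟩, ?_, rfl⟩
    have h9 : (⟨q, mem_centralizer_zpowers.2 hqx⟩ : ↥C1) =
        ((⟨q, mem_centralizer_zpowers.2 hqx⟩ : ↥C1) ^ 3) ^ 3 := by
      refine Subtype.ext ?_
      show q = (q ^ 3) ^ 3
      rw [← pow_mul, show 3 * 3 = 4 * 2 + 1 from rfl, pow_succ, pow_mul, h4, one_pow, one_mul]
    rw [h9]
    exact pow_mem (hcube _) 3
  obtain ⟨y, hy3, hyz, hxy, hny, hc, hna⟩ := hy
  obtain ⟨y', hyx', hny', ⟨d, hdz, hdx, hdy⟩, K', T', a, a', ⟨ha, ha'⟩, R'⟩ :=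
    T.exists_pair hy3 hyz hxy hny hc hna
  have hy'L : y' ∈ LG := by
    have hdy' : d * y' * d⁻¹ * y' * x = x * (d * y' * d⁻¹ * y') :=
      ((((show Commute d x from hdx).mul_left hyx').mul_left (Commute.inv_left hdx)).mul_left hyx').eq
    have h1 : d * y' * d⁻¹ * y'⁻¹ ∈ LG :=
      ⟨⁅(⟨d, mem_centralizer_zpowers.2 hdx⟩ : ↥C1), ⟨y', mem_centralizer_zpowers.2 hyx'⟩⁆,
        commutator_mem_commutator (mem_top _) (mem_top _), rfl⟩
    have h2 := mul_mem (inv_mem h1) (hQL hdy hdy')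
    rw [show (d * y' * d⁻¹ * y'⁻¹)⁻¹ * (d * y' * d⁻¹ * y') = y' ^ 2 by rw [pow_two]; group] at h2
    have h3 := pow_mem h2 2
    rwa [← pow_mul, show 2 * 2 = 3 + 1 from rfl, pow_succ, T'.x_three, one_mul] at h3
  have hnx : x ∉ zpowers y' := fun h => hny' <| by
    have he : zpowers x = zpowers y' := eq_of_le_of_card_ge (zpowers_le.2 h)
      (by rw [Nat.card_zpowers, Nat.card_zpowers, T.ord, T'.ord])
    exact he ▸ mem_zpowers y'
  obtain ⟨l, hl, hlx⟩ := mem_commutator_mod T' hS T.ord T.xz hyx'.symm hnx ha ha' R' hU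
  have hxL : x ∈ LG := by
    have := mul_mem hl ((zpowers_le.2 hy'L) hlx)
    rwa [mul_inv_cancel_left] at this
  intro n hn
  have := (zpowers_le.2 hxL) (show (n : G) ∈ zpowers x from hn)
  obtain ⟨m, hm', hmn⟩ := this
  rwa [← show m = n from Subtype.ext hmn]

end Rotates

end CfsgLib.CoOneType.SuzCent
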