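import Cfsg.Agent.Lib.CoOneType.SuzCent.Quot

/-!
Two commuting elements of order three with few common fixed points rotate two orthogonal planes.
-/

set_option autoImplicit false
set_option linter.style.longLine false
set_option maxHeartbeats 1000000
set_option synthInstance.maxSize 8000
set_option synthInstance.maxHeartbeats 1000000

namespace CfsgLib.CoOneType.SuzCent

open Subgroup
open CfsgLib.MonsterType CfsgLib.MonsterType.Local

/-- The standard plane. -/
def plane : Finset V := {0, pA, pA', pA + pA'}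

theorem plane_facts : plane.card = 4 ∧ ∀ u ∈ plane, ∀ u' ∈ plane, X0 (u + u') = u + u' → u = u' := by
  decide +kernel

namespace Rotates

variable {G : Type*} [Group G] [Finite G] {z : G} {Q₀ : Subgroup (cz z)} {K : Coord z (qm Q₀) 0} {x : G}
  (T : Rotates K x)
include T

/-- A second element of order three can be corrected by a power of `x` so that it rotates an orthogonal plane; it is
inverted modulo `Q` inside the centralizer of `x`, and in its own coordinates `x` rotates a plane of fixed vectors. -/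
theorem exists_pair {y : G} (hy : orderOf y = 3) (hyz : y * z = z * y) (hxy : y * x = x * y)
    (hny : y ∉ zpowers x) (hc : 16 ≤ (Finset.univ.filter fun v : V => X0 v = v ∧ K.act y v = v).card)
    (hna : ∃ a b : V, (X0 a = a ∧ K.act y a = a) ∧ (X0 b = b ∧ K.act y b = b) ∧ B a b = 1) :
    ∃ y' : G, y' * x = x * y' ∧ y' ∉ zpowers x ∧
      (∃ d : G, d * z = z * d ∧ d * x = x * d ∧ d * y' * d⁻¹ * y' ∈ qm Q₀) ∧
      ∃ K' : Coord z (qm Q₀) 0, Rotates K' y' ∧
        ∃ a a' : V, (X0 a = a ∧ X0 a' = a') ∧ Rot (K'.act x) a a' := by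
  classical
  have : Fact (Nat.Prime 3) := ⟨Nat.prime_three⟩
  have H := T.hyp
  obtain ⟨k, hA, hA'⟩ := plane_pow (g := K.act y) (K.act_add H hyz) (K.act_q H hyz) (T.comm_act hyz hxy)
  set s := x ^ (k : ℕ) with hs
  have hsz : s * z = z * s := ((show Commute x z from T.xz).pow_left _).eq
  have hsz' : s⁻¹ * z = z * s⁻¹ := (Commute.inv_left hsz).eq
  have hsx : s * x = x * s := ((Commute.refl x).pow_left _).eq
  have hys : Commute y s := (show Commute y x from hxy).pow_right _
  have hsA : K.act s = X0^[(k : ℕ)] := T.act_pow _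
  set y' := y * s⁻¹ with hy'
  have hy'z : y' * z = z * y' := (Commute.mul_left hyz hsz').eq
  have hy'x : y' * x = x * y' := ((show Commute y x from hxy).mul_left (Commute.inv_left hsx)).eq
  have hny' : y' ∉ zpowers x := fun h => hny <| by
    have := mul_mem h (pow_mem (mem_zpowers x) (k : ℕ))
    rwa [hy', ← hs, inv_mul_cancel_right] at this
  have hord : orderOf y' = 3 := by
    refine orderOf_eq_prime ?_ fun h => hny' (h ▸ one_mem _)
    rw [hy', hys.inv_right.mul_pow, inv_pow, ← pow_mul, mul_comm, pow_mul, T.x_three, one_pow, inv_one, mul_one,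
      ← hy, pow_orderOf_eq_one]
  have hact : ∀ v, K.act s (K.act y' v) = K.act y v := fun v => by
    rw [← K.act_mul H hsz hy'z, hy', ← mul_assoc, ← hys.eq, mul_inv_cancel_right]
  have hfix : ∀ v, K.act y v = K.act s v → K.act y' v = v := fun v h =>
    K.act_injective H hsz ((hact v).trans h)
  have hfA : K.act y' pA = pA := hfix _ (by rw [hA, hsA])
  have hfA' : K.act y' pA' = pA' := hfix _ (by rw [hA', hsA])
  have hfm : ∀ v, X0 v = v → K.act y v = v → K.act y' v = v := fun v h1 h2 =>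
    hfix v (by rw [h2, hsA, X0_iter_fix h1])
  have h64 : 64 ≤ (Finset.univ.filter fun v => K.act y' v = v).card := by
    set C := Finset.univ.filter fun v : V => X0 v = v ∧ K.act y v = v with hC
    refine le_trans (by rw [Finset.card_product, plane_facts.1]; omega : 64 ≤ (C ×ˢ plane).card) ?_
    refine Finset.card_le_card_of_injOn (fun p => p.1 + p.2) (fun p hp => ?_) fun p hp p' hp' h => ?_
    · obtain ⟨h1, h2⟩ := Finset.mem_product.1 (Finset.mem_coe.1 hp)
      obtain ⟨h1a, h1b⟩ := (Finset.mem_filter.1 h1).2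
      refine Finset.mem_coe.2 (Finset.mem_filter.2 ⟨Finset.mem_univ _, ?_⟩)
      show K.act y' (p.1 + p.2) = p.1 + p.2
      rw [K.act_add H hy'z, hfm _ h1a h1b]
      simp only [plane, Finset.mem_insert, Finset.mem_singleton] at h2
      rcases h2 with h | h | h | h <;> rw [h]
      · rw [K.act_zero H hy'z]
      · rw [hfA]
      · rw [hfA']
      · rw [K.act_add H hy'z, hfA, hfA']
    · obtain ⟨h1, h2⟩ := Finset.mem_product.1 (Finset.mem_coe.1 hp)
      obtain ⟨h1', h2'⟩ := Finset.mem_product.1 (Finset.mem_coe.1 hp')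
      simp only at h
      have e1 : p.2 + p'.2 = p.1 + p'.1 := eqV <| by
        rw [show p.2 + p'.2 + (p.1 + p'.1) = p.1 + p.2 + (p'.1 + p'.2) by abel, h, addV]
      have e2 := plane_facts.2 _ h2 _ h2' (by
        rw [e1, X0_add, (Finset.mem_filter.1 h1).2.1, (Finset.mem_filter.1 h1').2.1])
      refine Prod.ext ?_ e2
      rw [e2] at h
      exact add_right_cancel h
  obtain ⟨w, w', R⟩ := exists_rot_act K H hord hy'z
    (U := Finset.univ.image fun v => K.act y' v + v) (fun v => Finset.mem_image_of_mem _ (Finset.mem_univ v))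
    (card_move_le (K.act_add H hy'z) h64)
  obtain ⟨hAw, hAw'⟩ := R.perp hfA
  obtain ⟨hA'w, hA'w'⟩ := R.perp hfA'
  have hwA : X0 w = w := X0_fix_iff.2 ⟨(B_comm w pA).trans hAw, (B_comm w pA').trans hA'w⟩
  obtain ⟨b, ⟨hbX, hby⟩, hbq⟩ : ∃ b : V, (X0 b = b ∧ K.act y b = b) ∧ qV 0 b = 1 := by
    obtain ⟨a, b, ha, hb, hab⟩ := hna
    rcases zcases (qV 0 a) with h1 | h1
    · rcases zcases (qV 0 b) with h2 | h2
      · exact ⟨a + b, ⟨by rw [X0_add, ha.1, hb.1], by rw [K.act_add H hyz, ha.2, hb.2]⟩,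
          by rw [qV_add, h1, h2, hab, add_zero, zero_add]⟩
      · exact ⟨b, hb, h2⟩
    · exact ⟨a, ha, h1⟩
  obtain ⟨hbA, hbA'⟩ := X0_fix_iff.1 hbX
  obtain ⟨hbw, hbw'⟩ := R.perp (hfm b hbX hby)
  obtain ⟨hwA1, hwA2⟩ := X0_fix_iff.1 hwA
  obtain ⟨c, hc', hca⟩ := K.pair H R.qw hbq
  obtain ⟨d, hdz, hdx, hda⟩ := T.exists_lift hc' fun v => by
    rw [hca, hca, refl_X0 hbA hbA', refl_X0 hwA1 hwA2]
  have hd' : d⁻¹ * z = z * d⁻¹ := (Commute.inv_left hdz).eq
  have hdi : ∀ v, K.act d⁻¹ v = refl b (refl w v) := fun v => by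
    refine K.act_injective H hdz ?_
    rw [← K.act_mul H hdz hd', mul_inv_cancel, K.act_one H, hda, hca, refl_refl, refl_refl]
  have h1 : d * y' * z = z * (d * y') := (Commute.mul_left hdz hy'z).eq
  have h2 : d * y' * d⁻¹ * z = z * (d * y' * d⁻¹) := (Commute.mul_left h1 hd').eq
  refine ⟨y', hy'x, hny', ⟨d, hdz, hdx, K.mem_of_act H (Commute.mul_left h2 hy'z).eq fun v => ?_⟩, ?_⟩
  · rw [K.act_mul H h2 hy'z, K.act_mul H h1 hd', K.act_mul H hdz hy'z, hda, hca, hdi, R.apply, R.apply, refl_refl,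
      refl_comm hbw' v, refl_refl, refl_comm hbw (refl b v), refl_refl, refl_refl]
  · obtain ⟨M, hM, e1, e2, T'⟩ := exists_rotates K H hord hy'z R
    refine ⟨mapCoord K hM, T', M pA, M pA', ⟨?_, ?_⟩, ⟨?_, ?_, ?_, funext fun v => ?_⟩⟩
    · exact X0_fix_iff.2 ⟨(congrArg (B (M pA)) e1.symm).trans ((hM.B pA w).trans hAw),
        (congrArg (B (M pA)) e2.symm).trans ((hM.B pA w').trans hAw')⟩
    · exact X0_fix_iff.2 ⟨(congrArg (B (M pA')) e1.symm).trans ((hM.B pA' w).trans hA'w),
        (congrArg (B (M pA')) e2.symm).trans ((hM.B pA' w').trans hA'w')⟩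
    · rw [hM.q, rot_X0.qw]
    · rw [hM.q, rot_X0.qw']
    · rw [hM.B, rot_X0.bw]
    · obtain ⟨u, rfl⟩ := hM.bij.2 v
      rw [act_mapCoord K H hM T.xz, T.act, X0, hM.refl_apply, hM.refl_apply]

end Rotates

end CfsgLib.CoOneType.SuzCent
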