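import Cfsg.Agent.Lib.CoOneType.SuzCent.Coords
import Cfsg.Agent.Lib.CoOneType.SuzCent.Local
import Cfsg.Agent.Lib.CoOneType.Radical
import Cfsg.Agent.Lib.ThreeTrans.MinusSix
import Cfsg.Agent.Lib.ClassicalGroups.UnitarySimple
import Cfsg.Agent.S5379

/-!
For an element `x` rotating an anisotropic plane of `Q/⟨z⟩`, the centraliser of `x` modulo `⟨x⟩` satisfies the
hypothesis of Suzuki type.
-/

set_option autoImplicit false
set_option linter.style.longLine false
set_option linter.style.haveILetI false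
set_option maxHeartbeats 1000000
set_option synthInstance.maxSize 8000
set_option synthInstance.maxHeartbeats 1000000

namespace CfsgLib.CoOneType.SuzCent

open Subgroup QuadraticMap
open CfsgLib.MonsterType CfsgLib.MonsterType.Local

variable {G : Type*} [Group G] [Finite G] {z : G}

/-- The form on the fixed space. -/
noncomputable abbrev Q6 : QuadraticForm (ZMod 2) Six := CfsgLib.Orth.minusQ 2 (ZMod 2) 1 1

theorem omega_simple : IsSimpleGroup ↥(commutator (CfsgLib.Orth.O Q6)) := by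
  classical
  let := Fintype.ofFinite (GaloisField 2 2)
  have hF : Fintype.card (GaloisField 2 2) = 2 ^ 2 := by
    rw [← Nat.card_eq_fintype_card, GaloisField.card 2 2 (by norm_num)]
  obtain ⟨e⟩ := Cfsg.Agent.S0303.result (K := GaloisField 2 2) (q := 2) (ZMod.card 2) hF (1 : ZMod 2) 1
    CfsgLib.ThreeTrans.MinusSix.aniso
  rw [← CfsgLib.Orth.minusQ_coe] at e
  have hc := Cfsg.Agent.S5379.card_omega
  rw [← CfsgLib.Orth.minusQ_coe] at hc
  replace hc : Nat.card ↥(commutator (CfsgLib.Orth.O Q6)) = 25920 := hc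
  set Ω := commutator (CfsgLib.Orth.O Q6)
  have hz : center ↥Ω = ⊥ := by
    have h := card_eq_card_quotient_mul_card_subgroup (center ↥Ω)
    rw [hc, show Nat.card (↥Ω ⧸ center ↥Ω) = 25920 from
      (Nat.card_congr e.toEquiv).trans (CfsgLib.ThreeTrans.USix.card_psu_four hF)] at h
    exact Subgroup.card_eq_one.1 (by omega)
  have := CfsgLib.ClassicalGroups.psu_isSimpleGroup (n := 4) hF (by norm_num) (by norm_num)
  exact ((QuotientGroup.quotientBot.symm.trans (QuotientGroup.quotientMulEquivOfEq hz.symm)).trans e).isSimpleGroup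

theorem card_omega6 : Nat.card ↥(commutator (CfsgLib.Orth.O Q6)) = 25920 := by
  have hc := Cfsg.Agent.S5379.card_omega
  rw [← CfsgLib.Orth.minusQ_coe] at hc
  exact hc

theorem pCore_omega : Cfsg.pCore 2 ↥(commutator (CfsgLib.Orth.O Q6)) = ⊥ := by
  haveI := omega_simple
  haveI : Fact (Nat.Prime 2) := ⟨Nat.prime_two⟩
  refine ((Cfsg.pCore_normal 2 ↥(commutator (CfsgLib.Orth.O Q6))).eq_bot_or_eq_top).resolve_right fun h => ?_
  have hP := CfsgLib.PCore.pCore_isPGroup (p := 2) (G := ↥(commutator (CfsgLib.Orth.O Q6)))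
  rw [h] at hP
  obtain ⟨n, hn⟩ := IsPGroup.iff_card.1 hP
  rw [card_top, card_omega6] at hn
  have h3 : 3 ∣ 2 ^ n := hn ▸ (by norm_num)
  exact absurd (Nat.prime_three.dvd_of_dvd_pow h3) (by norm_num)

theorem app_refl_emb (a u : Six) (ha : Q6 a = 1) :
    emb (CfsgLib.Orth.app (CfsgLib.Orth.refl Q6 a) u) = refl (emb a) (emb u) := by
  rw [CfsgLib.Orth.app_refl, ha, inv_one, one_mul]
  have hB : polar Q6 u a = B (emb u) (emb a) := by
    rw [QuadraticMap.polar, ← emb_q, ← emb_q, ← emb_q, emb_add, qV_add]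
    ring
  rw [hB, refl]
  have hneg : -a = a := funext fun i => ZMod.neg_eq_self_mod_two (a i)
  rcases zcases (B (emb u) (emb a)) with h | h
  · simp [h]
  · rw [h, one_smul, one_smul, sub_eq_add_neg, hneg, emb_add]

namespace Rotates

variable {Q₀ : Subgroup (cz z)} {K : Coord z (qm Q₀) 0} {x : G} (T : Rotates K x)
include T

theorem x_three : x ^ 3 = 1 := by rw [← T.ord, pow_orderOf_eq_one]

theorem act_pow (n : ℕ) : K.act (x ^ n) = X0^[n] := by
  induction n with
  | zero => funext v; rw [pow_zero, K.act_one T.hyp]; rfl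
  | succ n ih =>
    funext v
    rw [pow_succ', K.act_mul T.hyp T.xz ((show Commute x z from T.xz).pow_left n).eq, ih, T.act,
      Function.iterate_succ_apply']

theorem vec_conj {q : G} (hq : q ∈ qm Q₀) : K.vec (x * q * x⁻¹) = X0 (K.vec q) := by
  rw [← K.act_vec T.hyp T.xz hq, T.act]

theorem comm_iff {q : G} (hq : q ∈ qm Q₀) : q * x = x * q ↔ X0 (K.vec q) = K.vec q := by
  constructor
  · intro h
    rw [← T.vec_conj hq, ← h, mul_inv_cancel_right]
  · intro h
    rw [← T.vec_conj hq] at h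
    exact (commute_of_sign T.ord (by decide) (Coord.zz T.hyp) T.xz
      (K.eq_or T.hyp (T.hyp.norm x T.xz q hq) hq h)).symm

theorem comm_act {c : G} (hc : c * z = z * c) (hcx : c * x = x * c) (v : V) :
    K.act c (X0 v) = X0 (K.act c v) := by
  rw [← T.act, ← K.act_mul T.hyp hc T.xz, hcx, K.act_mul T.hyp T.xz hc]

/-- An induced map commuting with the rotation is induced by an element commuting with `x`. -/
theorem exists_lift {c : G} (hc : c * z = z * c) (h : ∀ v, K.act c (X0 v) = X0 (K.act c v)) :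
    ∃ d : G, d * z = z * d ∧ d * x = x * d ∧ K.act d = K.act c := by
  have : Fact (Nat.Prime 3) := ⟨Nat.prime_three⟩
  have hc' : c⁻¹ * z = z * c⁻¹ := (Commute.inv_left hc).eq
  have hx' : x⁻¹ * z = z * x⁻¹ := (Commute.inv_left T.xz).eq
  have h1 : c * x * z = z * (c * x) := (Commute.mul_left hc T.xz).eq
  have h2 : c * x * c⁻¹ * z = z * (c * x * c⁻¹) := (Commute.mul_left h1 hc').eq
  have hmem : c * x * c⁻¹ * x⁻¹ ∈ qm Q₀ := by
    refine K.mem_of_act T.hyp (Commute.mul_left h2 hx').eq fun v => ?_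
    rw [K.act_mul T.hyp h2 hx', K.act_mul T.hyp h1 hc', K.act_mul T.hyp hc T.xz, T.act, h,
      ← K.act_mul T.hyp hc hc', mul_inv_cancel, K.act_one T.hyp, ← T.act, ← K.act_mul T.hyp T.xz hx',
      mul_inv_cancel, K.act_one T.hyp]
  obtain ⟨q, hq, hqc⟩ := exists_mul_commute (l := 3) (by norm_num)
    (IsPGroup.of_card (p := 2) (n := 9) (by rw [T.hyp.card]; norm_num)) T.ord (fun q hq => T.hyp.norm x T.xz q hq) hmem
  have hqz : q * z = z * q := T.hyp.extra.comm_z hq
  refine ⟨q * c, (Commute.mul_left hqz hc).eq, hqc, funext fun v => ?_⟩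
  rw [K.act_mul T.hyp hqz hc, K.act_mem T.hyp hq]

theorem mem_fixQ_iff {q : G} : q ∈ fixQ Q₀ x ↔ q ∈ qm Q₀ ∧ X0 (K.vec q) = K.vec q := by
  rw [mem_fixQ]
  exact and_congr_right fun hq => T.comm_iff hq

theorem card_fixQ : Nat.card ↥(fixQ Q₀ x) = 2 ^ (2 * 3 + 1) := by
  rw [show 2 ^ (2 * 3 + 1) = 2 * (Finset.univ.filter fun v : V => X0 v = v).card by rw [card_fix]; rfl,
    ← K.card_lifts T.hyp]
  exact Nat.card_congr (Equiv.subtypeEquivRight fun q => T.mem_fixQ_iff)

theorem fix_invariant {c : G} (hc : c * z = z * c) (hcx : c * x = x * c) {v : V} (hv : X0 v = v) :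
    X0 (K.act c v) = K.act c v := by rw [← T.comm_act hc hcx, hv]

/-- The map induced on the fixed space. -/
noncomputable def lin (c : ↥(czb z x)) : Six →ₗ[ZMod 2] Six :=
  (AddMonoidHom.mk' (fun u => proj (K.act (c : G) (emb u))) fun a b => by
    rw [emb_add, K.act_add T.hyp (mem_czb.1 c.2).1, proj_add]).toZModLinearMap 2

theorem emb_lin (c : ↥(czb z x)) (u : Six) : emb (T.lin c u) = K.act (c : G) (emb u) :=
  emb_proj _ (T.fix_invariant (mem_czb.1 c.2).1 (mem_czb.1 c.2).2 (X0_emb u))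

theorem lin_mul (c d : ↥(czb z x)) (u : Six) : T.lin (c * d) u = T.lin c (T.lin d u) := by
  refine emb_injective ?_
  rw [T.emb_lin, T.emb_lin, T.emb_lin, Subgroup.coe_mul, K.act_mul T.hyp (mem_czb.1 c.2).1 (mem_czb.1 d.2).1]

theorem lin_one (u : Six) : T.lin 1 u = u :=
  emb_injective (by rw [T.emb_lin, Subgroup.coe_one, K.act_one T.hyp])

/-- The representation on the fixed space. -/
noncomputable def toO : ↥(czb z x) →* CfsgLib.Orth.O Q6 where
  toFun c := CfsgLib.Orth.mkO (T.lin c) (T.lin c⁻¹)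
    (LinearMap.ext fun u => by rw [LinearMap.comp_apply, ← T.lin_mul, mul_inv_cancel, T.lin_one]; rfl)
    (LinearMap.ext fun u => by rw [LinearMap.comp_apply, ← T.lin_mul, inv_mul_cancel, T.lin_one]; rfl)
    fun u => by rw [← emb_q, ← emb_q, T.emb_lin, K.act_q T.hyp (mem_czb.1 c.2).1]
  map_one' := CfsgLib.Orth.ext_app fun u => by rw [CfsgLib.Orth.app_mkO, CfsgLib.Orth.app_one, T.lin_one]
  map_mul' c d := CfsgLib.Orth.ext_app fun u => by
    rw [CfsgLib.Orth.app_mkO, CfsgLib.Orth.app_mul, CfsgLib.Orth.app_mkO, CfsgLib.Orth.app_mkO, T.lin_mul]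

theorem app_toO (c : ↥(czb z x)) (u : Six) : CfsgLib.Orth.app (T.toO c) u = T.lin c u := by
  simp only [toO, MonoidHom.coe_mk, OneHom.coe_mk, CfsgLib.Orth.app_mkO]

theorem toO_one_iff (c : ↥(czb z x)) : T.toO c = 1 ↔ ∀ v, X0 v = v → K.act (c : G) v = v := by
  constructor
  · intro h v hv
    rw [← emb_proj v hv, ← T.emb_lin, ← T.app_toO, h, CfsgLib.Orth.app_one]
  · intro h
    refine CfsgLib.Orth.ext_app fun u => emb_injective ?_
    rw [CfsgLib.Orth.app_one, T.app_toO, T.emb_lin, h _ (X0_emb u)]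

theorem pair_mem {a b : Six} (ha : Q6 a = 1) (hb : Q6 b = 1) :
    CfsgLib.Orth.refl Q6 a * CfsgLib.Orth.refl Q6 b ∈ T.toO.range := by
  obtain ⟨c, hc, hca⟩ := K.pair T.hyp (show qV 0 (emb a) = 1 by rw [emb_q, ha]) (show qV 0 (emb b) = 1 by rw [emb_q, hb])
  obtain ⟨d, hdz, hdx, hda⟩ := T.exists_lift hc fun v => by
    rw [hca, hca, refl_X0 (emb_perp b).1 (emb_perp b).2, refl_X0 (emb_perp a).1 (emb_perp a).2]
  refine ⟨⟨d, mem_czb.2 ⟨hdz, hdx⟩⟩, CfsgLib.Orth.ext_app fun u => emb_injective ?_⟩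
  rw [T.app_toO, T.emb_lin, CfsgLib.Orth.app_mul, app_refl_emb a _ ha, app_refl_emb b u hb]
  exact (congrFun hda _).trans (hca _)

theorem refl_not_mem {a : Six} (ha : Q6 a = 1) : CfsgLib.Orth.refl Q6 a ∉ T.toO.range := by
  rintro ⟨c, hc⟩
  obtain ⟨hcz, hcx⟩ := mem_czb.1 c.2
  have hq : qV 0 (emb a) = 1 := by rw [emb_q, ha]
  obtain ⟨k, hk⟩ := eq_pow_of_fix (g := fun v => refl (emb a) (K.act (c : G) v))
    (fun u v => by rw [K.act_add T.hyp hcz, refl_add])
    (fun v => by rw [refl_q 0 _ _ (Or.inl hq), K.act_q T.hyp hcz])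
    (fun v => by rw [T.comm_act hcz hcx, refl_X0 (emb_perp a).1 (emb_perp a).2])
    (fun v hv => by
      have h : K.act (c : G) v = refl (emb a) v := by
        conv_lhs => rw [← emb_proj v hv, ← T.emb_lin, ← T.app_toO, hc, app_refl_emb a _ ha, emb_proj v hv]
      show refl (emb a) (K.act (c : G) v) = v
      rw [h, refl_refl])
  have hxk : x ^ (k : ℕ) * z = z * x ^ (k : ℕ) := ((show Commute x z from T.xz).pow_left _).eq
  have hxk' : (x ^ (k : ℕ))⁻¹ * z = z * (x ^ (k : ℕ))⁻¹ := (Commute.inv_left hxk).eq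
  refine K.no_refl T.hyp hq (c := (c : G) * (x ^ (k : ℕ))⁻¹) (Commute.mul_left hcz hxk').eq fun v => ?_
  have h := congrFun hk (K.act ((x ^ (k : ℕ))⁻¹) v)
  rw [← T.act_pow, ← K.act_mul T.hyp hxk hxk', mul_inv_cancel, K.act_one T.hyp] at h
  rw [K.act_mul T.hyp hcz hxk', ← refl_refl (emb a) (K.act (c : G) _)]
  exact congrArg _ h

theorem range_toO : T.toO.range = commutator (CfsgLib.Orth.O Q6) := by
  classical
  have hgen : CfsgLib.Orth.reflClosure Q6 = ⊤ :=
    Cfsg.Agent.InvolForm57.minus_gen 2 CfsgLib.ThreeTrans.MinusSix.aniso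
  have hQ : Q6.polarBilin.Nondegenerate := CfsgLib.POmega.minusQ_nondegenerate_any (m := 2) CfsgLib.ThreeTrans.MinusSix.aniso
  obtain ⟨a, ha⟩ := CfsgLib.Orth.exists_anisotropic hQ (by simp)
  replace ha : Q6 a = 1 := (zcases (Q6 a)).resolve_left ha
  set r := CfsgLib.Orth.refl Q6 a with hr
  have hrr : r * r = 1 := CfsgLib.Orth.refl_mul_self a
  have hall : ∀ g : CfsgLib.Orth.O Q6, g ∈ T.toO.range ∨ r * g ∈ T.toO.range := by
    intro g
    have hg : g ∈ CfsgLib.Orth.reflClosure Q6 := hgen ▸ mem_top g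
    have hstep : ∀ u : Six, ∀ g : CfsgLib.Orth.O Q6, (g ∈ T.toO.range ∨ r * g ∈ T.toO.range) →
        (CfsgLib.Orth.refl Q6 u * g ∈ T.toO.range ∨ r * (CfsgLib.Orth.refl Q6 u * g) ∈ T.toO.range) := by
      intro u g hg
      rcases zcases (Q6 u) with hu | hu
      · rwa [CfsgLib.Orth.refl_eq_one hu, one_mul]
      · rcases hg with hg | hg
        · exact Or.inr (by rw [← mul_assoc]; exact mul_mem (T.pair_mem ha hu) hg)
        · refine Or.inl ?_
          have := mul_mem (T.pair_mem hu ha) hg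
          rwa [mul_assoc, ← mul_assoc r r g, hrr, one_mul] at this
    refine closure_induction_left (p := fun g _ => g ∈ T.toO.range ∨ r * g ∈ T.toO.range) (Or.inl (one_mem _))
      (fun s hs y _ hy => ?_) (fun s hs y _ hy => ?_) hg
    · obtain ⟨u, rfl⟩ := hs
      exact hstep u y hy
    · obtain ⟨u, rfl⟩ := hs
      rw [CfsgLib.Orth.refl_inv]
      exact hstep u y hy
  have hrn : r ∉ T.toO.range := T.refl_not_mem ha
  have hidx : T.toO.range.index = 2 := by
    have hb : ∀ b, (r * b ∈ T.toO.range ↔ b ∉ T.toO.range) := fun b => by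
      refine ⟨fun h hb => hrn ?_, fun h => (hall b).resolve_left h⟩
      have := mul_mem h (inv_mem hb)
      rwa [mul_inv_cancel_right] at this
    haveI : Finite (CfsgLib.Orth.O Q6) := inferInstance
    refine index_eq_two_iff.2 ⟨r, fun b => ?_⟩
    have hbr : b * r ∈ T.toO.range ↔ r * b⁻¹ ∈ T.toO.range := by
      rw [← inv_mem_iff (x := b * r), mul_inv_rev, CfsgLib.Orth.refl_inv]
    by_cases h : b ∈ T.toO.range
    · exact Or.inr ⟨h, fun h' => (hb _).1 (hbr.1 h') (inv_mem h)⟩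
    · exact Or.inl ⟨hbr.2 ((hb _).2 fun h' => h (by simpa using h')), h⟩
  have hle : commutator (CfsgLib.Orth.O Q6) ≤ T.toO.range := by
    rw [commutator_def]
    refine Subgroup.commutator_le.2 fun p _ q _ => ?_
    simp only [commutatorElement_def, mul_mem_iff_of_index_two hidx, inv_mem_iff]
    tauto
  have hi := CfsgLib.Orth.index_commutator_char_two hQ hgen (by simp)
  refine (eq_of_le_of_card_ge hle ?_).symm
  have h1 := T.toO.range.card_mul_index
  have h2 := (commutator (CfsgLib.Orth.O Q6)).card_mul_index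
  rw [hidx] at h1
  rw [hi] at h2
  omega

/-- The map onto the quotient group. -/
noncomputable def phi : ↥(czb z x) →* ↥(commutator (CfsgLib.Orth.O Q6)) :=
  T.toO.codRestrict _ fun c => T.range_toO ▸ ⟨c, rfl⟩

theorem phi_one_iff (c : ↥(czb z x)) : T.phi c = 1 ↔ ∀ v, X0 v = v → K.act (c : G) v = v := by
  rw [← T.toO_one_iff, phi, Subtype.ext_iff]
  rfl

/-- The setting of Suzuki type in the centraliser of `x` modulo `⟨x⟩`. -/
theorem setting [Q₀.Normal] (hS : Cfsg.IsExtraspecialCentralizerSetting z Q₀ 4)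
    [((zpowers x).subgroupOf (centralizer (zpowers x : Set G))).Normal]
    (hzH : z ∈ centralizer (zpowers x : Set G)) :
    ∃ (R : Subgroup (cz (QuotientGroup.mk ⟨z, hzH⟩ : ↥(centralizer (zpowers x : Set G)) ⧸
        (zpowers x).subgroupOf (centralizer (zpowers x : Set G))))) (_ : R.Normal),
      Cfsg.IsExtraspecialCentralizerSetting
        (QuotientGroup.mk ⟨z, hzH⟩ : ↥(centralizer (zpowers x : Set G)) ⧸
          (zpowers x).subgroupOf (centralizer (zpowers x : Set G))) R 3 ∧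
      Nonempty (cz (QuotientGroup.mk ⟨z, hzH⟩ : ↥(centralizer (zpowers x : Set G)) ⧸
          (zpowers x).subgroupOf (centralizer (zpowers x : Set G))) ⧸ R ≃*
          Cfsg.Omega (ZMod 2) (Cfsg.quadFormMinus 2 (ZMod 2) 1 1)) ∧
      ∀ d, d ∈ R ↔ ∃ q : ↥(centralizer (zpowers x : Set G)), (q : G) ∈ fixQ Q₀ x ∧
        (d : ↥(centralizer (zpowers x : Set G)) ⧸
          (zpowers x).subgroupOf (centralizer (zpowers x : Set G))) = QuotientGroup.mk q := by
  classical
  haveI : Fact (Nat.Prime 3) := ⟨Nat.prime_three⟩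
  have H := T.hyp
  have hne := H.extra.ne_one
  rw [← CfsgLib.Orth.minusQ_coe]
  have hs : Function.Surjective T.phi := by
    rintro ⟨u, hu⟩
    rw [← T.range_toO] at hu
    obtain ⟨c, hc⟩ := hu
    exact ⟨c, Subtype.ext hc⟩
  refine quot_setting (w := 4) (by norm_num) hS (l := 3) (by norm_num) T.ord T.xz (k := 3) ?_ ?_ T.card_fixQ ?_
    T.phi hs ?_ ?_ ?_ ?_ pCore_omega hzH
  · intro q hq hall
    obtain ⟨hq', hfix⟩ := T.mem_fixQ_iff.1 hq
    refine (K.zero_iff hq').1 ?_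
    by_contra h0
    obtain ⟨a, ha, hB⟩ := fix_radical _ hfix h0
    have hm : K.lift a ∈ fixQ Q₀ x := T.mem_fixQ_iff.2 ⟨K.lift_mem a, by rw [K.vec_lift, ha]⟩
    have := (K.comm_iff hne (K.lift_mem a) hq').1 (hall _ hm)
    rw [K.vec_lift, hB] at this
    exact one_ne_zero this
  · have hf : X0 f0 = f0 ∧ X0 x0 = x0 ∧ B x0 f0 = 1 := by decide +kernel
    refine ⟨K.lift x0, T.mem_fixQ_iff.2 ⟨K.lift_mem _, by rw [K.vec_lift, hf.2.1]⟩, K.lift f0,
      T.mem_fixQ_iff.2 ⟨K.lift_mem _, by rw [K.vec_lift, hf.1]⟩, fun h => ?_⟩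
    have := (K.comm_iff hne (K.lift_mem x0) (K.lift_mem f0)).1 h
    rw [K.vec_lift, K.vec_lift, hf.2.2] at this
    exact one_ne_zero this
  · obtain ⟨v, hv, hvq, hv0⟩ := fix_singular
    set r := K.lift v
    have hr : r * r = 1 := (K.invol_iff hne (K.lift_mem v)).2 (by rw [K.vec_lift, hvq])
    have hr1 : r ≠ 1 := fun e => hv0 (by rw [← K.vec_lift v, show K.lift v = 1 from e, K.vec_one])
    have hrz : r ≠ z := fun e => hv0 (by rw [← K.vec_lift v, show K.lift v = z from e, K.vec_z H])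
    obtain ⟨h, hh⟩ := K.conj_of_mem H (K.lift_mem v) hr hr1
    exact ⟨r, T.mem_fixQ_iff.2 ⟨K.lift_mem v, by rw [K.vec_lift, hv]⟩, isConj_iff.2 ⟨h, hh⟩, hrz⟩
  · exact fun c hc => (T.phi_one_iff c).2 fun v _ => K.act_mem H hc.1 v
  · intro c hc
    refine (T.phi_one_iff c).2 fun v hv => ?_
    obtain ⟨n, hn⟩ := (Submonoid.mem_powers_iff _ _).1 ((isOfFinOrder_of_finite x).mem_powers_iff_mem_zpowers.2 hc)
    rw [← hn, T.act_pow, X0_iter_fix hv]
  · intro c hc
    obtain ⟨hcz, hcx⟩ := mem_czb.1 c.2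
    obtain ⟨k, hk⟩ := eq_pow_of_fix (g := K.act (c : G)) (K.act_add H hcz) (K.act_q H hcz) (T.comm_act hcz hcx)
      ((T.phi_one_iff c).1 hc)
    have hxk : x ^ (k : ℕ) * z = z * x ^ (k : ℕ) := ((show Commute x z from T.xz).pow_left _).eq
    have hxk' : (x ^ (k : ℕ))⁻¹ * z = z * (x ^ (k : ℕ))⁻¹ := (Commute.inv_left hxk).eq
    refine ⟨(c : G) * (x ^ (k : ℕ))⁻¹, mem_fixQ.2 ⟨K.mem_of_act H (Commute.mul_left hcz hxk').eq fun v => ?_, ?_⟩, ?_⟩
    · rw [K.act_mul H hcz hxk', hk, ← T.act_pow, ← K.act_mul H hxk hxk', mul_inv_cancel, K.act_one H]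
    · exact ((show Commute (c : G) x from hcx).mul_left ((Commute.refl x).pow_left _).inv_left).eq
    · rw [mul_inv_rev, inv_inv, mul_assoc, inv_mul_cancel, mul_one]
      exact pow_mem (mem_zpowers x) _
  · intro c hc
    refine (T.phi_one_iff c).2 fun v hv => ?_
    have hm : K.lift v ∈ fixQ Q₀ x := T.mem_fixQ_iff.2 ⟨K.lift_mem v, by rw [K.vec_lift, hv]⟩
    show K.vec ((c : G) * K.lift v * (c : G)⁻¹) = v
    rw [hc _ hm, mul_inv_cancel_right, K.vec_lift]

end Rotates

end CfsgLib.CoOneType.SuzCent
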