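import Cfsg.Agent.Lib.CoOneType.SuzCent.Main
import Cfsg.Agent.S5378

/-!
From the data on the centralizer of an involution and the subgroups `X ≤ Y₉` to the rotated planes.
-/

set_option autoImplicit false
set_option linter.style.longLine false
set_option maxHeartbeats 1000000
set_option synthInstance.maxSize 8000
set_option synthInstance.maxHeartbeats 1000000

universe u

namespace CfsgLib.CoOneType.SuzCent

open Subgroup
open scoped commutatorElement
open CfsgLib.MonsterType CfsgLib.MonsterType.Local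

variable {G : Type u} [Group G] [Finite G]

/-- The statement for `X`, given the uniqueness of the Suzuki group and the quasisimplicity inside it. -/
theorem quasisimple_of_setting (hSuz : SuzProp.{u}) (hU : QuasiProp.{u}) {z : G} (hz : orderOf z = 2)
    (Q : Subgroup (centralizer ({z} : Set G))) [Q.Normal]
    (hF : Cfsg.generalizedFittingSubgroup (centralizer ({z} : Set G)) = Q) (hQ : Cfsg.IsExtraspecial 2 Q)
    (hcard : Nat.card Q = 2 ^ 9)
    (e : (centralizer ({z} : Set G)) ⧸ Q ≃* Cfsg.Omega (ZMod 2) (Cfsg.quadFormPlus 4 (ZMod 2)))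
    (hnwc : ∃ g : G, (∃ hq : g * z * g⁻¹ ∈ centralizer ({z} : Set G),
      (⟨g * z * g⁻¹, hq⟩ : centralizer ({z} : Set G)) ∈ Q) ∧ g * z * g⁻¹ ≠ z)
    (X : Subgroup (centralizer ({z} : Set G))) (hX : Nat.card X = 3) (hQX : Nat.card ↥⁅Q, X⁆ = 8)
    (hQXna : ¬ IsMulCommutative ↥⁅Q, X⁆) (Y₉ : Subgroup (centralizer ({z} : Set G))) (hXY : X ≤ Y₉)
    (hY₉ : Nat.card Y₉ = 9) (hY₉e : ∀ y ∈ Y₉, y ^ 3 = 1)
    (hCQ₉ : Cfsg.IsExtraspecial 2 ↥(Q ⊓ centralizer (Y₉ : Set (centralizer ({z} : Set G)))))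
    (hCQ₉c : Nat.card ↥(Q ⊓ centralizer (Y₉ : Set (centralizer ({z} : Set G)))) = 32)
    [hn : ((X.map (centralizer ({z} : Set G)).subtype).subgroupOf
      (centralizer ((X.map (centralizer ({z} : Set G)).subtype) : Set G))).Normal] :
    Cfsg.IsQuasisimple ↥(centralizer ((X.map (centralizer ({z} : Set G)).subtype) : Set G)) ∧
      Cfsg.Spor.IsoSuz (↥(centralizer ((X.map (centralizer ({z} : Set G)).subtype) : Set G)) ⧸
        (X.map (centralizer ({z} : Set G)).subtype).subgroupOf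
          (centralizer ((X.map (centralizer ({z} : Set G)).subtype) : Set G))) := by
  classical
  have : Fact (Nat.Prime 2) := ⟨Nat.prime_two⟩
  have : Fact (Nat.Prime 3) := ⟨Nat.prime_three⟩
  have hS : Cfsg.IsExtraspecialCentralizerSetting z Q 4 := ⟨hz, hF, hQ, hcard, hnwc⟩
  obtain ⟨hEx, hself, hnorm⟩ := CfsgLib.MonsterType.setting_extraAt hS
  have H : Hyp z (qm Q) := by
    refine ⟨hz, map_subtype_le _,
      fun c hc y hy => (mem_normalizer_iff.1 (hnorm (mem_centralizer_singleton_iff.2 hc)) y).1 hy,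
      ?_, hEx, fun c _ hcy => ?_, ?_, ?_⟩
    · rw [card_qm, hcard]; norm_num
    · obtain ⟨a, -, rfl⟩ : c ∈ (center ↥(qm Q)).map (qm Q).subtype := hself ▸ mem_centralizer_iff.2 hcy
      exact a.2
    · rw [card_eq_card_quotient_mul_card_subgroup Q, Nat.card_congr e.toEquiv, Cfsg.Agent.S5378.card_omega,
        hcard]; norm_num
    · obtain ⟨g, ⟨hq, hgQ⟩, hne⟩ := hnwc
      exact ⟨g, ⟨⟨_, hq⟩, hgQ, rfl⟩, hne⟩
  obtain ⟨K⟩ := H.exists_plus
  have hne := H.extra.ne_one
  obtain ⟨x0, hx0⟩ := exists_prime_orderOf_dvd_card' (G := ↥X) 3 (by rw [hX])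
  set xC : ↥(centralizer ({z} : Set G)) := x0.1 with hxC
  have hgen : zpowers xC = X := by
    refine eq_of_le_of_card_ge (zpowers_le.2 x0.2) ?_
    rw [hX, Nat.card_zpowers, hxC, Subgroup.orderOf_coe, hx0]
  set x : G := xC.1 with hxdef
  have hx : orderOf x = 3 := by rw [hxdef, Subgroup.orderOf_coe, hxC, Subgroup.orderOf_coe, hx0]
  have hxz : x * z = z * x := mem_centralizer_singleton_iff.1 xC.2
  set W := (⁅Q, X⁆).map (centralizer ({z} : Set G)).subtype with hW
  have hWQ : W ≤ qm Q := map_mono (Subgroup.commutator_le_left _ _)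
  have hWcard : Nat.card ↥W = 8 := by rw [hW, card_map_of_injective (subtype_injective _), hQX]
  have hzW : z ∈ W := by
    by_contra hzW
    refine hQXna ⟨⟨fun a b => Subtype.ext (Subtype.ext ?_)⟩⟩
    have ha : ((a : ↥(centralizer ({z} : Set G))) : G) ∈ W := ⟨_, a.2, rfl⟩
    have hb : ((b : ↥(centralizer ({z} : Set G))) : G) ∈ W := ⟨_, b.2, rfl⟩
    have h := K.conj (hWQ hb) (hWQ ha)
    split_ifs at h with h0
    · exact mul_inv_eq_iff_eq_mul.1 h
    · refine absurd ?_ hzW
      have : z = (a : G) * b * (a : G)⁻¹ * (b : G)⁻¹ := by rw [h, mul_inv_cancel_right]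
      rw [this]
      exact mul_mem (mul_mem (mul_mem ha hb) (inv_mem ha)) (inv_mem hb)
  let U : Finset V := Finset.univ.filter fun v => ∃ w ∈ W, K.vec w = v
  have hU' : ∀ v, K.act x v + v ∈ U := by
    intro v
    refine Finset.mem_filter.2 ⟨Finset.mem_univ _, ?_⟩
    obtain ⟨qC, hqC, hqe⟩ := K.lift_mem v
    refine ⟨x * K.lift v * x⁻¹ * (K.lift v)⁻¹, ?_, ?_⟩
    · refine ⟨(qC * xC * qC⁻¹ * xC⁻¹)⁻¹, inv_mem (Subgroup.commutator_mem_commutator hqC x0.2), ?_⟩
      rw [map_inv, map_mul, map_mul, map_mul, map_inv, map_inv]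
      show ((qC : G) * x * (qC : G)⁻¹ * x⁻¹)⁻¹ = _
      rw [show (qC : G) = K.lift v from hqe]
      group
    · rw [K.mul (H.norm x hxz _ (K.lift_mem v)) (inv_mem (K.lift_mem v)), K.vec_inv (K.lift_mem v),
        ← K.act_vec H hxz (K.lift_mem v), K.vec_lift]
  have hU4 : U.card ≤ 4 := by
    have hch : ∀ v : {v // v ∈ U}, ∃ w ∈ W, K.vec w = v := fun v => (Finset.mem_filter.1 v.2).2
    choose w hw hwv using hch
    have hinj : Function.Injective fun p : Bool × {v // v ∈ U} =>
        (⟨(if p.1 then z else 1) * w p.2, mul_mem (by cases p.1 <;> simp [hzW, one_mem]) (hw _)⟩ : ↥W) := by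
      rintro ⟨b, v⟩ ⟨b', v'⟩ h
      have h' := congrArg Subtype.val h
      have hv : K.vec ((if b then z else 1) * w v) = v := by
        rw [K.mul (by cases b <;> simp [Coord.zQ H, one_mem]) (hWQ (hw v)), hwv]
        cases b <;> simp [K.vec_one, K.vec_z H]
      have hv' : K.vec ((if b' then z else 1) * w v') = v' := by
        rw [K.mul (by cases b' <;> simp [Coord.zQ H, one_mem]) (hWQ (hw v')), hwv]
        cases b' <;> simp [K.vec_one, K.vec_z H]
      obtain rfl : v = v' := Subtype.ext (by rw [← hv, ← hv']; exact congrArg K.vec h')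
      have h'' := mul_right_cancel h'
      cases b <;> cases b' <;> simp_all
    have := Nat.card_le_card_of_injective _ hinj
    rw [hWcard, Nat.card_prod, Nat.card_eq_fintype_card, Nat.card_eq_fintype_card, Fintype.card_bool,
      Fintype.card_coe] at this
    omega
  obtain ⟨w, w', R⟩ := exists_rot_act K H hx hxz hU' hU4
  obtain ⟨M, hM, -, -, T⟩ := exists_rotates K H hx hxz R
  set K₁ := mapCoord K hM with hK₁
  -- an element of `Y₉` outside `X`
  obtain ⟨yC, hyY, hyX⟩ : ∃ yC ∈ Y₉, yC ∉ X := by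
    by_contra hcon
    push Not at hcon
    have := Subgroup.card_le_of_le hcon
    rw [hX, hY₉] at this
    omega
  set y : G := yC.1 with hydef
  have hy : orderOf y = 3 := by
    rw [hydef, Subgroup.orderOf_coe]
    exact orderOf_eq_prime (hY₉e _ hyY) fun h => hyX (h ▸ one_mem _)
  have hyz : y * z = z * y := mem_centralizer_singleton_iff.1 yC.2
  have hxy : y * x = x * y := by
    have h := (IsPGroup.commGroupOfCardEqPrimeSq (G := ↥Y₉) (p := 3) (by rw [hY₉]; norm_num)).mul_comm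
      ⟨yC, hyY⟩ ⟨xC, hXY x0.2⟩
    exact congrArg (fun t : ↥Y₉ => ((t : ↥(centralizer ({z} : Set G))) : G)) h
  have hmapX : X.map (centralizer ({z} : Set G)).subtype = zpowers x := by
    rw [← hgen, MonoidHom.map_zpowers]; rfl
  have hny : y ∉ zpowers x := fun h => hyX <| by
    rw [← hmapX] at h
    obtain ⟨t, ht, hty⟩ := h
    rwa [← show t = yC from Subtype.ext hty]
  have hY : closure ({xC, yC} : Set ↥(centralizer ({z} : Set G))) = Y₉ := by
    set D := closure ({xC, yC} : Set ↥(centralizer ({z} : Set G))) with hD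
    have hle : D ≤ Y₉ := (closure_le _).2 fun t ht => by
      rcases ht with rfl | rfl
      exacts [hXY x0.2, hyY]
    refine eq_of_le_of_card_ge hle ?_
    obtain ⟨k, hk, hk'⟩ := (Nat.dvd_prime_pow Nat.prime_three).1
      (show Nat.card D ∣ 3 ^ 2 from (card_dvd_of_le hle).trans (by rw [hY₉]; norm_num))
    have hXD : X < D := lt_of_le_of_ne (hgen ▸ zpowers_le.2 (subset_closure (Or.inl rfl)))
      fun h => hyX (h ▸ subset_closure (Or.inr rfl))
    have hlt : Nat.card X < Nat.card D :=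
      lt_of_not_ge fun h => hXD.ne (eq_of_le_of_card_ge hXD.le h)
    rw [hX, hk'] at hlt
    interval_cases k
    · norm_num at hlt
    · norm_num at hlt
    · rw [hY₉, hk']; norm_num
  have hact : ∀ {q : G}, q ∈ qm Q → (q * y = y * q ↔ K₁.act y (K₁.vec q) = K₁.vec q) := by
    intro q hq
    rw [K₁.act_vec H hyz hq]
    constructor
    · intro h; rw [← h, mul_inv_cancel_right]
    · intro h
      exact (commute_of_sign hy (by decide) (Coord.zz H) hyz (K₁.eq_or H (H.norm y hyz q hq) hq h)).symm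
  set P := Q ⊓ centralizer (Y₉ : Set (centralizer ({z} : Set G))) with hP
  have hmem : ∀ t : ↥(centralizer ({z} : Set G)), t ∈ P ↔ (t : G) ∈ qm Q ∧
      (X0 (K₁.vec t) = K₁.vec t ∧ K₁.act y (K₁.vec t) = K₁.vec t) := by
    intro t
    rw [hP, Subgroup.mem_inf, ← hY, centralizer_closure, mem_centralizer_iff]
    constructor
    · rintro ⟨hQ', h⟩
      have hq : (t : G) ∈ qm Q := ⟨t, hQ', rfl⟩
      exact ⟨hq, (T.comm_iff hq).1 (congrArg Subtype.val (h xC (Or.inl rfl))).symm,
        (hact hq).1 (congrArg Subtype.val (h yC (Or.inr rfl))).symm⟩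
    · rintro ⟨⟨a, ha, hat⟩, h1, h2⟩
      have hq : (t : G) ∈ qm Q := ⟨a, ha, hat⟩
      refine ⟨(Subtype.ext hat : a = t) ▸ ha, fun s hs => Subtype.ext ?_⟩
      rcases hs with rfl | rfl
      exacts [((T.comm_iff hq).2 h1).symm, ((hact hq).2 h2).symm]
  have hc : 16 ≤ (Finset.univ.filter fun v : V => X0 v = v ∧ K₁.act y v = v).card := by
    have h := K₁.card_lifts H (fun v => X0 v = v ∧ K₁.act y v = v)
    have h' : Nat.card ↥P = Nat.card {a : G // a ∈ qm Q ∧ (X0 (K₁.vec a) = K₁.vec a ∧ K₁.act y (K₁.vec a) = K₁.vec a)} :=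
      Nat.card_congr
        { toFun := fun t => ⟨t.1.1, (hmem _).1 t.2⟩
          invFun := fun t => ⟨⟨t.1, H.hQC t.2.1⟩, (hmem _).2 t.2⟩ }
    rw [hCQ₉c, h] at h'
    omega
  have hna : ∃ a b : V, (X0 a = a ∧ K₁.act y a = a) ∧ (X0 b = b ∧ K₁.act y b = b) ∧ B a b = 1 := by
    by_contra hcon
    push Not at hcon
    have hct : center ↥P = ⊤ := eq_top_iff.2 fun r _ => mem_center_iff.2 fun s => by
      obtain ⟨hs, hs'⟩ := (hmem _).1 s.2
      obtain ⟨hr, hr'⟩ := (hmem _).1 r.2
      refine Subtype.ext (Subtype.ext ?_)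
      refine (K₁.comm_iff hne hs hr).2 ((zcases _).resolve_right ?_)
      exact hcon _ _ hs' hr'
    have h2 := hCQ₉.2
    rw [hct, card_top, hCQ₉c] at h2
    norm_num at h2
  revert hn
  rw [hmapX]
  intro hn
  exact T.quasisimple hS ⟨y, hy, hyz, hxy, hny, hc, hna⟩ hSuz hU

end CfsgLib.CoOneType.SuzCent
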